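import Mathlib.GroupTheory.Index
import Mathlib.GroupTheory.OrderOfElement
import Mathlib.Data.Nat.ModEq
import Mathlib.Data.Fintype.BigOperators
import Mathlib.Algebra.BigOperators.GroupWithZero.Action
import Mathlib.GroupTheory.Subgroup.Centralizer
import Mathlib.Tactic.Group

/-!
# The coset `D s` for an element `s` normalizing `D` with order prime to `|D|`

Every element of `D s` is conjugate by an element of `D` to an element `c s` with `c ∈ D` commuting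
with `s`; averaging over the coset reduces to averaging over these elements.
-/

set_option autoImplicit false
set_option linter.style.haveILetI false
set_option linter.unusedSectionVars false

namespace Cfsg.Agent.GlauCyclic

variable {Γ : Type*} [Group Γ] [Finite Γ] {D CD : Subgroup Γ} {s : Γ}

theorem mul_pow_eq_self (hco : (Nat.card D).Coprime (orderOf s)) :
    ∃ a : ℕ, ∀ c ∈ D, Commute c s → (c * s) ^ a = s := by
  obtain ⟨a, ha, ha'⟩ := Nat.chineseRemainder hco 0 1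
  refine ⟨a, fun c hc hcs => ?_⟩
  have h1 : c ^ a = 1 := by
    obtain ⟨t, ht⟩ := Nat.modEq_zero_iff_dvd.1 ha
    have : c ^ Nat.card D = 1 := congrArg Subtype.val (pow_card_eq_one' (x := (⟨c, hc⟩ : D)))
    rw [ht, pow_mul, this, one_pow]
  rw [hcs.mul_pow, h1, one_mul]
  exact (pow_eq_pow_iff_modEq.2 ha').trans (pow_one s)

theorem commute_of_conj_eq (hco : (Nat.card D).Coprime (orderOf s)) {c c' h : Γ}
    (hc : c ∈ D) (hc' : c' ∈ D) (hcs : Commute c s) (hcs' : Commute c' s)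
    (he : h * (c * s) * h⁻¹ = c' * s) : Commute h s ∧ c' = h * c * h⁻¹ := by
  obtain ⟨a, ha⟩ := mul_pow_eq_self hco
  have h1 : h * s * h⁻¹ = s := by
    rw [← ha c hc hcs, ← conj_pow, he, ha c' hc' hcs', ha c hc hcs]
  refine ⟨mul_inv_eq_iff_eq_mul.1 h1, mul_right_cancel (b := s) ?_⟩
  rw [← he]
  calc h * (c * s) * h⁻¹ = (h * c * h⁻¹) * (h * s * h⁻¹) := by group
    _ = h * c * h⁻¹ * s := by rw [h1]

/-- The twisted conjugation map. -/
def twist (hs : ∀ d ∈ D, s * d * s⁻¹ ∈ D) (hCD : CD ≤ D) (p : D × CD) : D :=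
  ⟨(p.1 : Γ) * ((p.2 : Γ) * s) * (p.1 : Γ)⁻¹ * s⁻¹, by
    rw [show (p.1 : Γ) * ((p.2 : Γ) * s) * (p.1 : Γ)⁻¹ * s⁻¹ =
      (p.1 : Γ) * p.2 * (s * (p.1 : Γ)⁻¹ * s⁻¹) by group]
    exact D.mul_mem (D.mul_mem p.1.2 (hCD p.2.2)) (hs _ (D.inv_mem p.1.2))⟩

theorem coe_twist_mul (hs : ∀ d ∈ D, s * d * s⁻¹ ∈ D) (hCD : CD ≤ D) (p : D × CD) :
    (twist hs hCD p : Γ) * s = (p.1 : Γ) * ((p.2 : Γ) * s) * (p.1 : Γ)⁻¹ := by
  simp [twist]

variable [Fintype D] [Fintype CD]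

open Classical in
theorem card_fiber_twist (hs : ∀ d ∈ D, s * d * s⁻¹ ∈ D)
    (hco : (Nat.card D).Coprime (orderOf s)) (hCD : ∀ c, c ∈ CD ↔ c ∈ D ∧ Commute c s) (x : D)
    {p₀ : D × CD} (hp₀ : twist hs (fun c hc => ((hCD c).1 hc).1) p₀ = x) :
    ((Finset.univ : Finset (D × CD)).filter
      fun p => twist hs (fun c hc => ((hCD c).1 hc).1) p = x).card = Fintype.card CD := by
  have hle : CD ≤ D := fun c hc => ((hCD c).1 hc).1
  have key : ∀ p : D × CD, twist hs (fun c hc => ((hCD c).1 hc).1) p = x →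
      ((p₀.1 : Γ)⁻¹ * p.1) ∈ CD ∧
        (p₀.2 : Γ) = ((p₀.1 : Γ)⁻¹ * p.1) * p.2 * ((p₀.1 : Γ)⁻¹ * p.1)⁻¹ := by
    intro p hp
    have he : (p.1 : Γ) * ((p.2 : Γ) * s) * (p.1 : Γ)⁻¹ =
        (p₀.1 : Γ) * ((p₀.2 : Γ) * s) * (p₀.1 : Γ)⁻¹ := by
      rw [← coe_twist_mul hs hle p, ← coe_twist_mul hs hle p₀, hp, hp₀]
    have he' : ((p₀.1 : Γ)⁻¹ * p.1) * ((p.2 : Γ) * s) * ((p₀.1 : Γ)⁻¹ * p.1)⁻¹ =
        (p₀.2 : Γ) * s := by
      calc _ = (p₀.1 : Γ)⁻¹ * ((p.1 : Γ) * ((p.2 : Γ) * s) * (p.1 : Γ)⁻¹) * p₀.1 := by group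
        _ = _ := by rw [he]; group
    obtain ⟨h1, h2⟩ := commute_of_conj_eq hco ((hCD _).1 p.2.2).1 ((hCD _).1 p₀.2.2).1
      ((hCD _).1 p.2.2).2 ((hCD _).1 p₀.2.2).2 he'
    exact ⟨(hCD _).2 ⟨D.mul_mem (D.inv_mem p₀.1.2) p.1.2, h1⟩, h2⟩
  refine Finset.card_bij' (fun p hp => (⟨_, (key p (Finset.mem_filter.1 hp).2).1⟩ : CD))
    (fun h _ => ((p₀.1 * ⟨h, hle h.2⟩ : D), h⁻¹ * p₀.2 * h)) (fun p _ => Finset.mem_univ _)
    (fun h _ => Finset.mem_filter.2 ⟨Finset.mem_univ _, ?_⟩) (fun p hp => ?_)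
    (fun h _ => Subtype.ext (by simp))
  · rw [← hp₀]
    apply Subtype.ext
    apply mul_right_cancel (b := s)
    rw [coe_twist_mul, coe_twist_mul]
    have hhs : (h : Γ)⁻¹ * s * h = s := by
      rw [mul_assoc, ((hCD _).1 h.2).2.symm.eq, inv_mul_cancel_left]
    push_cast
    calc (p₀.1 : Γ) * h * ((h : Γ)⁻¹ * p₀.2 * h * s) * ((p₀.1 : Γ) * h)⁻¹
        = (p₀.1 : Γ) * ((p₀.2 : Γ) * (h * s * (h : Γ)⁻¹)) * (p₀.1 : Γ)⁻¹ := by group
      _ = _ := by rw [((hCD _).1 h.2).2.eq, mul_inv_cancel_right]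
  · obtain ⟨h1, h2⟩ := key p (Finset.mem_filter.1 hp).2
    refine Prod.ext (Subtype.ext (by simp)) (Subtype.ext ?_)
    push_cast
    rw [h2]
    group

open Classical in
/-- Every element of `D s` is conjugate under `D` to some `c s`, `c ∈ CD`. -/
theorem exists_conj_eq (hs : ∀ d ∈ D, s * d * s⁻¹ ∈ D)
    (hco : (Nat.card D).Coprime (orderOf s)) (hCD : ∀ c, c ∈ CD ↔ c ∈ D ∧ Commute c s) (x : D) :
    ∃ p : D × CD, twist hs (fun c hc => ((hCD c).1 hc).1) p = x := by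
  set Φ : D × CD → D := twist hs (fun c hc => ((hCD c).1 hc).1) with hΦ
  have h1 : Fintype.card (D × CD) ≤ Fintype.card CD * ((Finset.univ).image Φ).card := by
    refine Finset.card_le_mul_card_image _ _ fun y hy => ?_
    obtain ⟨p, -, hp⟩ := Finset.mem_image.1 hy
    exact (card_fiber_twist hs hco hCD y hp).le
  rw [Fintype.card_prod, mul_comm (Fintype.card CD)] at h1
  have h2 : ((Finset.univ).image Φ) = Finset.univ :=
    Finset.eq_univ_of_card _ (le_antisymm (Finset.card_le_univ _)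
      (Nat.le_of_mul_le_mul_right h1 Fintype.card_pos))
  obtain ⟨p, -, hp⟩ := Finset.mem_image.1 (h2.symm ▸ Finset.mem_univ x)
  exact ⟨p, hp⟩

/-- Averaging an invariant function over `D s`. -/
theorem card_mul_sum_coset {R : Type*} [CommSemiring R] (hs : ∀ d ∈ D, s * d * s⁻¹ ∈ D)
    (hco : (Nat.card D).Coprime (orderOf s)) (hCD : ∀ c, c ∈ CD ↔ c ∈ D ∧ Commute c s)
    (f : Γ → R) (hf : ∀ d ∈ D, ∀ x, f (d * x * d⁻¹) = f x) :
    (Nat.card CD : R) * ∑ d : D, f (d * s) = (Nat.card D : R) * ∑ c : CD, f (c * s) := by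
  classical
  set Φ : D × CD → D := twist hs (fun c hc => ((hCD c).1 hc).1) with hΦ
  have h1 : ∀ p : D × CD, f (Φ p * s) = f (p.2 * s) := fun p => by
    rw [coe_twist_mul, hf _ p.1.2]
  calc (Nat.card CD : R) * ∑ d : D, f (d * s)
      = ∑ d : D, ∑ p ∈ Finset.univ.filter (fun p => Φ p = d), f (Φ p * s) := by
        rw [Finset.mul_sum]
        refine Finset.sum_congr rfl fun d _ => ?_
        obtain ⟨p, hp⟩ := exists_conj_eq hs hco hCD d
        rw [Finset.sum_congr rfl (fun q hq => by rw [(Finset.mem_filter.1 hq).2]),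
          Finset.sum_const, card_fiber_twist hs hco hCD d hp, nsmul_eq_mul,
          Nat.card_eq_fintype_card]
    _ = ∑ p : D × CD, f (p.2 * s) := by
        rw [Finset.sum_fiberwise]
        exact Finset.sum_congr rfl fun p _ => h1 p
    _ = _ := by
        rw [Fintype.sum_prod_type]
        simp only [Finset.sum_const, Finset.card_univ, nsmul_eq_mul, Nat.card_eq_fintype_card]

end Cfsg.Agent.GlauCyclic
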