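import Cfsg.Agent.Lib.Glauberman.PGroup
import Cfsg.Agent.Lib.Coprime.Basic
import Cfsg.Agent.Lib.Coprime.Action
import Mathlib.GroupTheory.GroupAction.ConjAct

/-!
# Solvable coprime operator groups: fixed characters

* `card_fix_irr_eq_card_fix_classes`: as many fixed irreducible characters as fixed classes;
* `exists_fix_over`: a fixed irreducible character of an invariant subgroup lies under a fixed one.
-/

namespace Cfsg.Agent.Glauberman

open Cfsg
open scoped ComplexConjugate

set_option linter.style.haveILetI false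
set_option linter.unusedSectionVars false

universe u v w

section Restrict

variable {T : Type u} [Group T] {G : Type v} [Group G]

/-- The action restricted to the fixed points of a normal subgroup of operators. -/
noncomputable def fixRestrict (φ : T →* MulAut G) (M : Subgroup T) [hM : M.Normal] :
    T →* MulAut (Coprime.fixedBy (φ.comp M.subtype)) :=
  have hmem : ∀ (t : T) (c : Coprime.fixedBy (φ.comp M.subtype)),
      φ t c ∈ Coprime.fixedBy (φ.comp M.subtype) := fun t c m => by
    have h := c.2 ⟨t⁻¹ * m * t, by simpa using hM.conj_mem m m.2 t⁻¹⟩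
    simp only [MonoidHom.comp_apply, Subgroup.coe_subtype, map_mul, map_inv, MulAut.mul_apply] at h ⊢
    have := congrArg (φ t) h
    simpa using this
  MonoidHom.mk'
    (fun t =>
      { toFun := fun c => ⟨φ t c, hmem t c⟩
        invFun := fun c => ⟨φ t⁻¹ c, hmem t⁻¹ c⟩
        left_inv := fun c => Subtype.ext (by simp)
        right_inv := fun c => Subtype.ext (by simp)
        map_mul' := fun a b => Subtype.ext (by simp) })
    fun s t => MulEquiv.ext fun c => Subtype.ext (by simp)

@[simp] theorem coe_fixRestrict (φ : T →* MulAut G) (M : Subgroup T) [M.Normal] (t : T)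
    (c : Coprime.fixedBy (φ.comp M.subtype)) :
    ((fixRestrict φ M t c : Coprime.fixedBy (φ.comp M.subtype)) : G) = φ t c := rfl

theorem fixRestrict_eq_one (φ : T →* MulAut G) (M : Subgroup T) [M.Normal] {m : T} (hm : m ∈ M) :
    fixRestrict φ M m = 1 :=
  MulEquiv.ext fun c => Subtype.ext (c.2 ⟨m, hm⟩)

/-- The quotient acting on the fixed points. -/
noncomputable def quotRestrict (φ : T →* MulAut G) (M : Subgroup T) [M.Normal] :
    T ⧸ M →* MulAut (Coprime.fixedBy (φ.comp M.subtype)) :=
  QuotientGroup.lift M (fixRestrict φ M) fun _ hm => fixRestrict_eq_one φ M hm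

@[simp] theorem quotRestrict_mk (φ : T →* MulAut G) (M : Subgroup T) [M.Normal] (t : T) :
    quotRestrict φ M (t : T ⧸ M) = fixRestrict φ M t := rfl

theorem fixedBy_isFixedEmbedding (φ : T →* MulAut G) :
    IsFixedEmbedding φ (Coprime.fixedBy φ).subtype :=
  ⟨Subgroup.subtype_injective _, fun g =>
    ⟨fun ⟨c, hc⟩ t => hc ▸ c.2 t, fun h => ⟨⟨g, h⟩, rfl⟩⟩⟩

theorem isFix_comp_subtype {φ : T →* MulAut G} {f : G → ℂ} (h : IsFix φ f) (M : Subgroup T) :
    IsFix (φ.comp M.subtype) f := fun m g => h m g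

theorem isFix_twist {φ : T →* MulAut G} {M : Subgroup T} [hM : M.Normal] {χ : IrrCharacter G}
    (h : IsFix (φ.comp M.subtype) χ.1) (t : T) :
    IsFix (φ.comp M.subtype) (twistChar (φ t) χ).1 := fun m g => by
  have := h ⟨t * m * t⁻¹, hM.conj_mem m m.2 t⟩ (φ t g)
  simpa [map_mul, map_inv] using this

theorem twist_eq_self_iff {φ : T →* MulAut G} {χ : IrrCharacter G} :
    (∀ t, twistChar (φ t) χ = χ) ↔ IsFix φ χ.1 :=
  ⟨fun h t g => congrFun (congrArg Subtype.val (h t)) g,
    fun h t => Subtype.ext (funext fun g => h t g)⟩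

theorem isFix_quotRestrict_iff {φ : T →* MulAut G} {M : Subgroup T} [M.Normal]
    {f : Coprime.fixedBy (φ.comp M.subtype) → ℂ} :
    IsFix (quotRestrict φ M) f ↔ IsFix (fixRestrict φ M) f := by
  constructor
  · intro h t g; exact h t g
  · intro h q g
    obtain ⟨t, rfl⟩ := QuotientGroup.mk_surjective q
    exact h t g

end Restrict

section Step

variable {p : ℕ} [hp : Fact p.Prime] {T : Type u} [Group T] [Finite T] {G : Type v} [Group G]
  [Fintype G] (φ : T →* MulAut G) (M : Subgroup T) [M.Normal] (hM : IsPGroup p M)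
  (hG : ¬ p ∣ Nat.card G)

include hM hG

theorem corr_fix_iff [Fintype (Coprime.fixedBy (φ.comp M.subtype))] {χ : IrrCharacter G}
    {β : IrrCharacter (Coprime.fixedBy (φ.comp M.subtype))}
    (h : Corr p (φ.comp M.subtype) (Coprime.fixedBy (φ.comp M.subtype)).subtype χ β) :
    IsFix φ χ.1 ↔ IsFix (fixRestrict φ M) β.1 := by
  have hι := fixedBy_isFixedEmbedding (φ.comp M.subtype)
  have hc : ∀ t, Corr p (φ.comp M.subtype) (Coprime.fixedBy (φ.comp M.subtype)).subtype
      (twistChar (φ t) χ) (twistChar (fixRestrict φ M t) β) := fun t => by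
    refine ⟨isFix_twist h.1 t, ?_⟩
    rw [mult_twist (φ t) (fixRestrict φ M t) (fun c => rfl)]
    exact h.2
  constructor
  · intro hf
    refine twist_eq_self_iff.1 fun t => ?_
    have := hc t
    rw [twist_eq_self_iff.2 hf t] at this
    exact corr_right_unique hM hι hG this h
  · intro hf
    refine twist_eq_self_iff.1 fun t => ?_
    have := hc t
    rw [twist_eq_self_iff.2 hf t] at this
    exact corr_left_unique hM hι hG this h

/-- Fixed characters of `G` and of the fixed subgroup. -/
theorem card_fix_irr_step [Fintype (Coprime.fixedBy (φ.comp M.subtype))] :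
    Nat.card {χ : IrrCharacter G // IsFix φ χ.1} =
      Nat.card {β : IrrCharacter (Coprime.fixedBy (φ.comp M.subtype)) //
        IsFix (quotRestrict φ M) β.1} := by
  have hι := fixedBy_isFixedEmbedding (φ.comp M.subtype)
  let e := corrEquiv hM hι hG
  refine Nat.card_congr
    (((Equiv.subtypeSubtypeEquivSubtype (p := fun χ : IrrCharacter G => IsFix (φ.comp M.subtype) χ.1)
      (q := fun χ : IrrCharacter G => IsFix φ χ.1) fun {χ} h => isFix_comp_subtype h M).symm).trans
      (e.subtypeEquiv fun χ => ?_))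
  rw [isFix_quotRestrict_iff]
  exact corr_fix_iff φ M hM hG (corr_corrEquiv hM hι hG χ)

/-- Fixed classes of `G` and of the fixed subgroup. -/
theorem card_fix_classes_step :
    Nat.card {K : ConjClasses G // ∀ t, ConjClasses.map (φ t).toMonoidHom K = K} =
      Nat.card {L : ConjClasses (Coprime.fixedBy (φ.comp M.subtype)) //
        ∀ q, ConjClasses.map (quotRestrict φ M q).toMonoidHom L = L} := by
  classical
  haveI : Fintype (Coprime.fixedBy (φ.comp M.subtype)) := Fintype.ofFinite _
  have hι := fixedBy_isFixedEmbedding (φ.comp M.subtype)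
  set ι := (Coprime.fixedBy (φ.comp M.subtype)).subtype with hιdef
  have hinj : ∀ a b, ConjClasses.map ι (ConjClasses.mk a) = ConjClasses.map ι (ConjClasses.mk b) →
      ConjClasses.mk a = ConjClasses.mk b := fun a b h =>
    ConjClasses.mk_eq_mk_iff_isConj.2 (exists_conj_of_isConj hM hι hG
      (ConjClasses.mk_eq_mk_iff_isConj.1 h))
  symm
  let f : {L : ConjClasses (Coprime.fixedBy (φ.comp M.subtype)) //
        ∀ q, ConjClasses.map (quotRestrict φ M q).toMonoidHom L = L} →
      {K : ConjClasses G // ∀ t, ConjClasses.map (φ t).toMonoidHom K = K} := fun L =>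
    ⟨ConjClasses.map ι L.1, fun t => by
      obtain ⟨L, hL⟩ := L
      induction L using Quotient.inductionOn with
      | _ a => exact congrArg (ConjClasses.map ι) (hL (t : T ⧸ M))⟩
  refine Nat.card_congr (Equiv.ofBijective f ⟨?_, ?_⟩)
  · rintro ⟨L, hL⟩ ⟨L', hL'⟩ h
    have h' : ConjClasses.map ι L = ConjClasses.map ι L' := congrArg Subtype.val h
    obtain ⟨a, rfl⟩ := ConjClasses.exists_rep L
    obtain ⟨b, rfl⟩ := ConjClasses.exists_rep L'
    exact Subtype.ext (hinj a b h')
  · rintro ⟨K, hK⟩
    obtain ⟨g, rfl⟩ := ConjClasses.exists_rep K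
    letI : MulAction M G := MulAction.compHom G (φ.comp M.subtype)
    let X : SubMulAction M G :=
      { carrier := {x | IsConj g x}
        smul_mem' := fun m x (hx : IsConj g x) => by
          show IsConj g (φ m x)
          exact (ConjClasses.mk_eq_mk_iff_isConj.1 (hK m).symm).trans
            ((φ (m : T)).toMonoidHom.map_isConj hx) }
    have hX : ¬ p ∣ Nat.card X := by
      intro hd
      refine hG (hd.trans ?_)
      have e : Nat.card X = Nat.card (MulAction.orbit (ConjAct G) g) :=
        Nat.card_congr (Equiv.setCongr (by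
          ext x
          show IsConj g x ↔ x ∈ MulAction.orbit (ConjAct G) g
          rw [ConjAct.mem_orbit_conjAct, isConj_comm]))
      rw [e, Nat.card_congr (MulAction.orbitEquivQuotientStabilizer (ConjAct G) g)]
      exact Subgroup.card_quotient_dvd_card _
    obtain ⟨⟨x, hx⟩, hfix⟩ := hM.nonempty_fixed_point_of_prime_not_dvd_card X hX
    let c : Coprime.fixedBy (φ.comp M.subtype) := ⟨x, fun m => congrArg Subtype.val (hfix m)⟩
    have hc : ConjClasses.map ι (ConjClasses.mk c) = ConjClasses.mk g :=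
      ConjClasses.mk_eq_mk_iff_isConj.2 (IsConj.symm hx)
    refine ⟨⟨ConjClasses.mk c, fun q => ?_⟩, Subtype.ext hc⟩
    obtain ⟨t, rfl⟩ := QuotientGroup.mk_surjective q
    refine hinj _ _ ?_
    have h1 := hK t
    rw [← hc] at h1
    exact h1

end Step

section Conv

variable {G : Type v} [Group G] [Fintype G] {N : Type w} [Group N] [Fintype N]

/-- `g ↦ ∑ n, conj (θ n) * χ (j n * g)`. -/
noncomputable def convFun (j : N →* G) (θ : N → ℂ) (χ : G → ℂ) (g : G) : ℂ :=
  ∑ n, conj (θ n) * χ (j n * g)

theorem sum_irr_mul_inv_mul {χ : G → ℂ} (hχ : IsIrrCharacter G χ) (z : G) :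
    χ 1 * ∑ g, χ g * χ (g⁻¹ * z) = (Nat.card G : ℂ) * χ z := by
  rw [← Char.sum_irr_mul_conj_conj hχ z]
  congr 1
  refine Fintype.sum_equiv (Equiv.inv G) _ _ fun g => ?_
  simp only [Equiv.inv_apply]
  rw [CharInt.char_inv (Char.IsIrrCharacter.isCharacter hχ), Complex.conj_conj]

theorem sum_convFun_mul (j : N →* G) {θ : N → ℂ} {χ : G → ℂ} (hθ : IsIrrCharacter N θ)
    (hχ : IsIrrCharacter G χ) (y : G) :
    χ 1 * conj (θ 1) * ∑ g, convFun j θ χ g * convFun j θ χ (g⁻¹ * y) =
      (Nat.card G : ℂ) * (Nat.card N : ℂ) * convFun j θ χ y := by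
  have hcl := Char.IsCharacter.isClassFunction (Char.IsIrrCharacter.isCharacter hχ)
  have h1 : ∀ n m : N, χ 1 * ∑ g, χ (j n * g) * χ (j m * (g⁻¹ * y)) =
      (Nat.card G : ℂ) * χ (j (m * n) * y) := by
    intro n m
    have e1 : χ (j (m * n) * y) = χ (j n * y * j m) := by
      rw [map_mul, mul_assoc, Char.IsClassFunction.apply_mul_comm hcl]
    rw [e1, ← sum_irr_mul_inv_mul hχ]
    congr 1
    refine Fintype.sum_equiv (Equiv.mulLeft (j n)) _ _ fun g => ?_
    simp only [Equiv.coe_mulLeft]
    congr 1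
    rw [Char.IsClassFunction.apply_mul_comm hcl]
    congr 1
    group
  have h2 : ∀ u : N, conj (θ 1) * ∑ n, conj (θ n) * conj (θ (u * n⁻¹)) =
      (Nat.card N : ℂ) * conj (θ u) := by
    intro u
    have := congrArg conj (sum_irr_mul_inv_mul hθ u)
    simp only [map_mul, map_sum, Complex.conj_natCast] at this
    rw [← this]
    congr 1
    refine Finset.sum_congr rfl fun n _ => ?_
    rw [Char.IsClassFunction.apply_mul_comm
      (Char.IsCharacter.isClassFunction (Char.IsIrrCharacter.isCharacter hθ))]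
  simp only [convFun]
  simp only [Finset.sum_mul_sum]
  simp only [Finset.mul_sum]
  rw [Finset.sum_comm]
  calc ∑ n, ∑ g, ∑ m, χ 1 * conj (θ 1) * (conj (θ n) * χ (j n * g) *
        (conj (θ m) * χ (j m * (g⁻¹ * y))))
      = ∑ n, ∑ m, conj (θ 1) * (conj (θ n) * conj (θ m)) *
          (χ 1 * ∑ g, χ (j n * g) * χ (j m * (g⁻¹ * y))) := by
        refine Finset.sum_congr rfl fun n _ => ?_
        rw [Finset.sum_comm]
        refine Finset.sum_congr rfl fun m _ => ?_
        rw [Finset.mul_sum, Finset.mul_sum]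
        exact Finset.sum_congr rfl fun g _ => by ring
    _ = ∑ n, ∑ u, conj (θ 1) * (conj (θ n) * conj (θ (u * n⁻¹))) *
          ((Nat.card G : ℂ) * χ (j u * y)) := by
        refine Finset.sum_congr rfl fun n _ => ?_
        refine Fintype.sum_equiv (Equiv.mulRight n) _ _ fun m => ?_
        simp only [Equiv.coe_mulRight, mul_inv_cancel_right]
        rw [h1]
    _ = ∑ u, (conj (θ 1) * ∑ n, conj (θ n) * conj (θ (u * n⁻¹))) *
          ((Nat.card G : ℂ) * χ (j u * y)) := by
        rw [Finset.sum_comm]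
        refine Finset.sum_congr rfl fun u _ => ?_
        rw [Finset.mul_sum, Finset.sum_mul]
    _ = _ := by
        refine Finset.sum_congr rfl fun u _ => ?_
        rw [h2]
        ring

theorem convFun_inv (j : N →* G) {θ : N → ℂ} {χ : G → ℂ} (hθ : IsCharacter N θ)
    (hχ : IsCharacter G χ) (g : G) : convFun j θ χ g⁻¹ = conj (convFun j θ χ g) := by
  simp only [convFun, map_sum, map_mul, Complex.conj_conj]
  refine Fintype.sum_equiv (Equiv.inv N) _ _ fun n => ?_
  simp only [Equiv.inv_apply, map_inv]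
  rw [← CharInt.char_inv hχ, ← CharInt.char_inv hθ, mul_inv_rev, inv_inv,
    Char.IsClassFunction.apply_mul_comm (Char.IsCharacter.isClassFunction hχ)]

theorem convFun_one (j : N →* G) (θ : N → ℂ) (χ : G → ℂ) :
    convFun j θ χ 1 = (Nat.card N : ℂ) * classInner (fun n => χ (j n)) θ := by
  rw [classInner, ← mul_assoc, mul_inv_cancel₀ Char.card_ne_zero, one_mul]
  simp only [convFun, mul_one]
  exact Finset.sum_congr rfl fun n _ => mul_comm _ _

/-- If `θ` is no constituent of the restriction of `χ`, the whole function vanishes. -/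
theorem convFun_eq_zero (j : N →* G) (θ : IrrCharacter N) (χ : IrrCharacter G)
    (h : classInner (fun n => χ.1 (j n)) θ.1 = 0) (g : G) : convFun j θ.1 χ.1 g = 0 := by
  have h1 := sum_convFun_mul j θ.2 χ.2 1
  rw [convFun_one, h, mul_zero, mul_zero, mul_eq_zero] at h1
  have h2 : ∑ g, convFun j θ.1 χ.1 g * convFun j θ.1 χ.1 (g⁻¹ * 1) = 0 := h1.resolve_left
    (mul_ne_zero (Char.IsIrrCharacter.apply_one_ne_zero χ.2)
      ((map_ne_zero _).2 (Char.IsIrrCharacter.apply_one_ne_zero θ.2)))
  simp only [mul_one, convFun_inv j (Char.irr_isCharacter θ) (Char.irr_isCharacter χ),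
    Complex.mul_conj, ← Complex.ofReal_sum, Complex.ofReal_eq_zero] at h2
  exact Complex.normSq_eq_zero.1
    ((Finset.sum_eq_zero_iff_of_nonneg fun x _ => Complex.normSq_nonneg _).1 h2 g
      (Finset.mem_univ g))

end Conv

section Compat

variable {p : ℕ} [hp : Fact p.Prime] {T : Type u} [Group T] [Finite T] {G N C D : Type*} [Group G]
  [Fintype G] [Group N] [Fintype N] [Group C] [Fintype C] [Group D] [Fintype D]
  {φ : T →* MulAut G} {ν : T →* MulAut N} {ι : C →* G} {κ : D →* N} (j : N →* G) (j' : D →* C)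

/-- The correspondence respects lying over. -/
theorem classInner_ne_zero_of_corr (hT : IsPGroup p T) (hι : IsFixedEmbedding φ ι)
    (hκ : IsFixedEmbedding ν κ) (hG : ¬ p ∣ Nat.card G) (hN : ¬ p ∣ Nat.card N)
    (hcomp : ∀ t n, j (ν t n) = φ t (j n)) (hsq : ∀ d, j (κ d) = ι (j' d))
    {χ : IrrCharacter G} {η : IrrCharacter C} {θ : IrrCharacter N} {δ : IrrCharacter D}
    (hχη : Corr p φ ι χ η) (hθδ : Corr p ν κ θ δ)
    (h : classInner (fun d => η.1 (j' d)) δ.1 ≠ 0) :
    classInner (fun n => χ.1 (j n)) θ.1 ≠ 0 := by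
  classical
  intro h0
  -- reduction modulo `p`
  have hx : ∀ c : C, PCong p (convFun j' δ.1 η.1 c) 0 := by
    intro c
    have h1 := pCong_sum_range (p := p) hT hκ (fun n => conj (θ.1 n) * χ.1 (j n * ι c))
      (fun t n => by
        have h2 : j (ν t n) * ι c = φ t (j n * ι c) := by rw [map_mul, hι.map_fixed, hcomp]
        simp only [hθδ.1 t n, h2, hχη.1 t])
      (fun n => (isIntegral_conj_irr θ n).mul (isIntegral_irr χ _))
    have hz : (∑ n, conj (θ.1 n) * χ.1 (j n * ι c)) = 0 := convFun_eq_zero j θ χ h0 (ι c)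
    rw [hz] at h1
    have e1 : ∀ d, χ.1 (j (κ d) * ι c) = χ.1 (ι (j' d * c)) := fun d => by rw [map_mul, hsq]
    have hθ : ∀ d, PCong p (conj (θ.1 (κ d))) ((mult κ θ δ : ℂ) * conj (δ.1 d)) := by
      intro d
      rw [sum_mult_smul, map_sum, ← Finset.add_sum_erase _ _ (Finset.mem_univ δ)]
      have := PCong.sum (p := p) ((Finset.univ : Finset (IrrCharacter D)).erase δ)
        (f := fun γ => conj ((mult κ θ γ : ℂ) * γ.1 d)) (g := fun _ => 0) fun γ hγ => by
          rw [map_mul, Complex.conj_natCast]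
          refine PCong.of_nat_dvd ?_ (isIntegral_conj_irr γ d)
          by_contra hnd
          exact (Finset.mem_erase.1 hγ).1 (corr_right_unique hT hκ hN ⟨hθδ.1, hnd⟩ hθδ)
      simpa using (PCong.refl (p := p) (conj ((mult κ θ δ : ℂ) * δ.1 d))).add this
    have hχ : ∀ x, PCong p (χ.1 (ι x)) ((mult ι χ η : ℂ) * η.1 x) := by
      intro x
      rw [sum_mult_smul, ← Finset.add_sum_erase _ _ (Finset.mem_univ η)]
      have := PCong.sum (p := p) ((Finset.univ : Finset (IrrCharacter C)).erase η)
        (f := fun γ => (mult ι χ γ : ℂ) * γ.1 x) (g := fun _ => 0) fun γ hγ => by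
          refine PCong.of_nat_dvd ?_ (isIntegral_irr γ x)
          by_contra hnd
          exact (Finset.mem_erase.1 hγ).1 (corr_right_unique hT hι hG ⟨hχη.1, hnd⟩ hχη)
      simpa using (PCong.refl (p := p) ((mult ι χ η : ℂ) * η.1 x)).add this
    have h3 : PCong p (∑ d, conj (θ.1 (κ d)) * χ.1 (j (κ d) * ι c))
        (((mult κ θ δ * mult ι χ η : ℕ) : ℂ) * convFun j' δ.1 η.1 c) := by
      rw [convFun, Finset.mul_sum]
      refine PCong.sum _ fun d _ => ?_
      rw [e1]
      refine ((hθ d).mul_right (isIntegral_irr χ _)).trans (((hχ _).mul_left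
        ((isIntegral_natCast' _).mul (isIntegral_conj_irr δ d))).trans (PCong.of_eq ?_))
      push_cast; ring
    refine PCong.cancel (n := ((mult κ θ δ * mult ι χ η : ℕ) : ℤ))
      (fun hd => (hp.out.dvd_mul.1 (Int.natCast_dvd_natCast.1 hd)).elim hθδ.2 hχη.2)
      (IsIntegral.sum _ fun d _ => (isIntegral_conj_irr δ d).mul (isIntegral_irr η _)) ?_
    simpa using (h1.trans h3).symm
  -- an idempotent matrix congruent to zero
  have hC : ¬ p ∣ Nat.card C := hι.not_dvd_card hG
  have hD : ¬ p ∣ Nat.card D := hκ.not_dvd_card hN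
  have hη1 := Char.IsIrrCharacter.apply_one_ne_zero η.2
  have hδ1 : conj (δ.1 1) ≠ 0 := (map_ne_zero _).2 (Char.IsIrrCharacter.apply_one_ne_zero δ.2)
  let k : ℂ := η.1 1 * conj (δ.1 1) / ((Nat.card C : ℂ) * (Nat.card D : ℂ))
  let P : Matrix C C ℂ := Matrix.of fun a b => k * convFun j' δ.1 η.1 (a⁻¹ * b)
  have hP : P * P = P := by
    ext a b
    simp only [Matrix.mul_apply, P, Matrix.of_apply]
    have e := sum_convFun_mul j' δ.2 η.2 (a⁻¹ * b)
    have e2 : ∑ x, k * convFun j' δ.1 η.1 (a⁻¹ * x) * (k * convFun j' δ.1 η.1 (x⁻¹ * b)) =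
        k * k * ∑ g, convFun j' δ.1 η.1 g * convFun j' δ.1 η.1 (g⁻¹ * (a⁻¹ * b)) := by
      rw [Finset.mul_sum]
      refine Fintype.sum_equiv (Equiv.mulLeft a⁻¹) _ _ fun x => ?_
      simp only [Equiv.coe_mulLeft, mul_inv_rev, inv_inv, mul_assoc, mul_inv_cancel_left]
      ring
    rw [e2]
    calc k * k * ∑ g, convFun j' δ.1 η.1 g * convFun j' δ.1 η.1 (g⁻¹ * (a⁻¹ * b))
        = k / ((Nat.card C : ℂ) * (Nat.card D : ℂ)) * (η.1 1 * conj (δ.1 1) *
          ∑ g, convFun j' δ.1 η.1 g * convFun j' δ.1 η.1 (g⁻¹ * (a⁻¹ * b))) := by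
          simp only [k]; ring
      _ = _ := by
          rw [e]
          have h4 : (Nat.card C : ℂ) ≠ 0 := Char.card_ne_zero
          have h5 : (Nat.card D : ℂ) ≠ 0 := Char.card_ne_zero
          field_simp
  have hP0 := eq_zero_of_isIdempotent_of_pCong (p := p) P hP (L := Nat.card C * Nat.card D)
    (fun hd => (hp.out.dvd_mul.1 hd).elim hC hD) fun a b => by
      have h4 : (Nat.card C : ℂ) ≠ 0 := Char.card_ne_zero
      have h5 : (Nat.card D : ℂ) ≠ 0 := Char.card_ne_zero
      have e : ((Nat.card C * Nat.card D : ℕ) : ℂ) * P a b =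
          (η.1 1 * conj (δ.1 1)) * convFun j' δ.1 η.1 (a⁻¹ * b) := by
        simp only [P, Matrix.of_apply, k]; push_cast; field_simp
      rw [e]
      simpa using (hx (a⁻¹ * b)).mul_left ((isIntegral_irr η 1).mul (isIntegral_conj_irr δ 1))
  have h6 : P 1 1 = 0 := by rw [hP0]; rfl
  simp only [P, Matrix.of_apply, inv_one, one_mul, convFun_one, mul_eq_zero, k, div_eq_zero_iff,
    Nat.cast_eq_zero, Nat.card_pos.ne', hη1, hδ1, or_self, or_false, false_or] at h6
  exact h h6

end Compat

section Induction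

private theorem fixIrrCount (n : ℕ) : ∀ (T : Type u) [Group T] [Finite T], Nat.card T = n →
    Group.IsSolvable T → ∀ (G : Type v) [Group G] [Fintype G] (φ : T →* MulAut G),
    (Nat.card G).Coprime (Nat.card T) →
    Nat.card {χ : IrrCharacter G // IsFix φ χ.1} =
      Nat.card {K : ConjClasses G // ∀ t, ConjClasses.map (φ t).toMonoidHom K = K} := by
  induction n using Nat.strong_induction_on with
  | _ n ih =>
    intro T _ _ hn hs G _ _ φ hcop
    haveI := hs
    rcases subsingleton_or_nontrivial T with hT | hT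
    · have h1 : ∀ χ : IrrCharacter G, IsFix φ χ.1 := fun χ t g => by
        rw [Subsingleton.elim t 1, map_one]; rfl
      have h2 : ∀ K : ConjClasses G, ∀ t, ConjClasses.map (φ t).toMonoidHom K = K := fun K t => by
        obtain ⟨g, rfl⟩ := ConjClasses.exists_rep K
        rw [Subsingleton.elim t 1, map_one]
        rfl
      rw [Nat.card_congr (Equiv.subtypeUnivEquiv h1), Nat.card_congr (Equiv.subtypeUnivEquiv h2)]
      exact Char.card_irr
    · obtain ⟨p, M, hp, hMn, hMne, hMp⟩ := Coprime.exists_normal_isPGroup (G := T)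
      haveI := Fact.mk hp
      have hM : p ∣ Nat.card M := by
        obtain ⟨k, hk⟩ := hMp.exists_card_eq
        rw [hk]
        refine dvd_pow_self p fun h0 => hMne ?_
        rw [h0, pow_zero] at hk
        exact Subgroup.eq_bot_of_card_eq M hk
      have hG : ¬ p ∣ Nat.card G := fun hd => hp.one_lt.ne'
        (Nat.eq_one_of_dvd_coprimes hcop hd (hM.trans M.card_subgroup_dvd_card))
      haveI : Fintype (Coprime.fixedBy (φ.comp M.subtype)) := Fintype.ofFinite _
      rw [card_fix_irr_step φ M hMp hG, card_fix_classes_step φ M hMp hG]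
      refine ih _ ?_ (T ⧸ M) rfl inferInstance _ _ ?_
      · rw [← hn, ← Subgroup.index_eq_card, ← M.card_mul_index]
        refine (Nat.lt_mul_iff_one_lt_left (Nat.pos_of_ne_zero M.index_ne_zero_of_finite)).2 ?_
        exact lt_of_lt_of_le hp.one_lt (Nat.le_of_dvd Nat.card_pos hM)
      · exact (hcop.of_dvd_left (Subgroup.card_subgroup_dvd_card _)).of_dvd_right
          (Subgroup.card_quotient_dvd_card M)

/-- As many fixed irreducible characters as fixed classes. -/
theorem card_fix_irr_eq_card_fix_classes {T : Type u} [Group T] [Finite T]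
    (hs : Group.IsSolvable T) {G : Type v} [Group G] [Fintype G] (φ : T →* MulAut G)
    (hcop : (Nat.card G).Coprime (Nat.card T)) :
    Nat.card {χ : IrrCharacter G // IsFix φ χ.1} =
      Nat.card {K : ConjClasses G // ∀ t, ConjClasses.map (φ t).toMonoidHom K = K} :=
  fixIrrCount _ T rfl hs G φ hcop

theorem exists_over {G : Type v} [Group G] [Fintype G] {N : Type w} [Group N] [Fintype N]
    (j : N →* G) (hj : Function.Injective j) (θ : IrrCharacter N) :
    ∃ χ : IrrCharacter G, classInner (fun n => χ.1 (j n)) θ.1 ≠ 0 := by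
  classical
  haveI : Fintype j.range := Fintype.ofFinite _
  let e := MonoidHom.ofInjective hj
  let θ' : j.range → ℂ := fun x => θ.1 (e.symm x)
  by_contra hno
  push Not at hno
  have hz : indFun j.range θ' = 0 := by
    refine Char.eq_zero_of_classInner_irr (Char.isClassFunction_indFun _ _) fun χ => ?_
    rw [Char.classInner_indFun _ _ (Char.IsCharacter.isClassFunction (Char.irr_isCharacter χ))]
    have h2 : classInner θ' (fun x : j.range => χ.1 x) = classInner θ.1 (fun n => χ.1 (j n)) := by
      simp only [classInner]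
      rw [Nat.card_congr e.symm.toEquiv]
      congr 1
      refine Fintype.sum_equiv e.symm.toEquiv _ _ fun x => ?_
      show θ.1 (e.symm x) * conj (χ.1 x) = θ.1 (e.symm x) * conj (χ.1 (j (e.symm x)))
      rw [show j (e.symm x) = (x : G) from congrArg Subtype.val (e.apply_symm_apply x)]
    rw [h2, ← Char.conj_classInner, hno χ, map_zero]
  have h1 := Char.indFun_apply_one j.range θ'
  rw [hz] at h1
  have h3 : θ' 1 ≠ 0 := by
    show θ.1 (e.symm 1) ≠ 0
    rw [map_one]; exact Char.IsIrrCharacter.apply_one_ne_zero θ.2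
  exact mul_ne_zero (Nat.cast_ne_zero.2 Subgroup.index_ne_zero_of_finite) h3 h1.symm

private theorem fixOver (n : ℕ) : ∀ (T : Type u) [Group T] [Finite T], Nat.card T = n →
    Group.IsSolvable T → ∀ (G : Type v) [Group G] [Fintype G] (N : Type w) [Group N] [Fintype N]
      (φ : T →* MulAut G) (ν : T →* MulAut N) (j : N →* G), Function.Injective j →
      (∀ t x, j (ν t x) = φ t (j x)) → (Nat.card G).Coprime (Nat.card T) →
      ∀ θ : IrrCharacter N, IsFix ν θ.1 →
      ∃ χ : IrrCharacter G, IsFix φ χ.1 ∧ classInner (fun x => χ.1 (j x)) θ.1 ≠ 0 := by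
  induction n using Nat.strong_induction_on with
  | _ n ih =>
    intro T _ _ hn hs G _ _ N _ _ φ ν j hj hcomp hcop θ hθ
    haveI := hs
    rcases subsingleton_or_nontrivial T with hT | hT
    · obtain ⟨χ, hχ⟩ := exists_over j hj θ
      exact ⟨χ, fun t g => by rw [Subsingleton.elim t 1, map_one]; rfl, hχ⟩
    · obtain ⟨p, M, hp, hMn, hMne, hMp⟩ := Coprime.exists_normal_isPGroup (G := T)
      haveI := Fact.mk hp
      have hM : p ∣ Nat.card M := by
        obtain ⟨k, hk⟩ := hMp.exists_card_eq
        rw [hk]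
        refine dvd_pow_self p fun h0 => hMne ?_
        rw [h0, pow_zero] at hk
        exact Subgroup.eq_bot_of_card_eq M hk
      have hG : ¬ p ∣ Nat.card G := fun hd => hp.one_lt.ne'
        (Nat.eq_one_of_dvd_coprimes hcop hd (hM.trans M.card_subgroup_dvd_card))
      have hN : ¬ p ∣ Nat.card N := fun hd => hG (hd.trans (Subgroup.card_dvd_of_injective j hj))
      haveI : Fintype (Coprime.fixedBy (φ.comp M.subtype)) := Fintype.ofFinite _
      haveI : Fintype (Coprime.fixedBy (ν.comp M.subtype)) := Fintype.ofFinite _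
      let j' : Coprime.fixedBy (ν.comp M.subtype) →* Coprime.fixedBy (φ.comp M.subtype) :=
        (j.comp (Coprime.fixedBy (ν.comp M.subtype)).subtype).codRestrict _ fun d m =>
          ((hcomp (m : T) d).symm.trans (congrArg j (d.2 m)))
      have hj' : Function.Injective j' := fun a b h =>
        Subtype.ext (hj (congrArg Subtype.val h))
      obtain ⟨δ, hδ⟩ := exists_corr_right hMp (fixedBy_isFixedEmbedding (ν.comp M.subtype)) hN
        (isFix_comp_subtype hθ M)
      have hδf : IsFix (quotRestrict ν M) δ.1 :=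
        isFix_quotRestrict_iff.2 ((corr_fix_iff ν M hMp hN hδ).1 hθ)
      obtain ⟨η, hηf, hη⟩ := ih (Nat.card (T ⧸ M)) (by
          rw [← hn, ← Subgroup.index_eq_card, ← M.card_mul_index]
          refine (Nat.lt_mul_iff_one_lt_left (Nat.pos_of_ne_zero M.index_ne_zero_of_finite)).2 ?_
          exact lt_of_lt_of_le hp.one_lt (Nat.le_of_dvd Nat.card_pos hM))
        (T ⧸ M) rfl inferInstance _ _ (quotRestrict φ M) (quotRestrict ν M) j' hj' (by
          intro q x
          obtain ⟨t, rfl⟩ := QuotientGroup.mk_surjective q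
          exact Subtype.ext (hcomp t x))
        ((hcop.of_dvd_left (Subgroup.card_subgroup_dvd_card _)).of_dvd_right
          (Subgroup.card_quotient_dvd_card M)) δ hδf
      obtain ⟨χ, hχ⟩ := exists_corr_left hMp (fixedBy_isFixedEmbedding (φ.comp M.subtype)) hG η
      refine ⟨χ, (corr_fix_iff φ M hMp hG hχ).2 (isFix_quotRestrict_iff.1 hηf), ?_⟩
      exact classInner_ne_zero_of_corr j j' hMp (fixedBy_isFixedEmbedding _)
        (fixedBy_isFixedEmbedding _) hG hN (fun m x => hcomp (m : T) x) (fun d => rfl) hχ hδ hη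

/-- A fixed irreducible character of an invariant subgroup lies under a fixed one. -/
theorem exists_fix_over {T : Type u} [Group T] [Finite T] (hs : Group.IsSolvable T) {G : Type v}
    [Group G] [Fintype G] {N : Type w} [Group N] [Fintype N] (φ : T →* MulAut G)
    (ν : T →* MulAut N) (j : N →* G) (hj : Function.Injective j)
    (hcomp : ∀ t x, j (ν t x) = φ t (j x)) (hcop : (Nat.card G).Coprime (Nat.card T))
    (θ : IrrCharacter N) (hθ : IsFix ν θ.1) :
    ∃ χ : IrrCharacter G, IsFix φ χ.1 ∧ classInner (fun x => χ.1 (j x)) θ.1 ≠ 0 :=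
  fixOver _ T rfl hs G N φ ν j hj hcomp hcop θ hθ

end Induction

end Cfsg.Agent.Glauberman
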