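import Cfsg.Agent.Lib.Glauberman.PGroup
import Cfsg.Agent.Lib.Char.CliffordGallagher
import Cfsg.Agent.Lib.Clifford.CoprimeExtension

/-!
# Operator groups, invariant normal subgroups, and fixed constituents
-/

set_option autoImplicit false
set_option linter.style.haveILetI false
set_option linter.unusedSectionVars false

namespace Cfsg.Agent.RelGlauberman

open Cfsg Cfsg.Agent.Char Cfsg.Agent.Glauberman
open scoped ComplexConjugate

universe u v w

section Operators

variable {T : Type v} [Group T] {G : Type u} [Group G]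

/-- The restriction of an action to an invariant subgroup. -/
def restrictAut (φ : T →* MulAut G) (H : Subgroup G) (h : ∀ t, ∀ x ∈ H, φ t x ∈ H) :
    T →* MulAut H :=
  MonoidHom.mk'
    (fun t =>
      { toFun := fun x => ⟨φ t x, h t x x.2⟩
        invFun := fun x => ⟨φ t⁻¹ x, h t⁻¹ x x.2⟩
        left_inv := fun x => Subtype.ext (by simp)
        right_inv := fun x => Subtype.ext (by simp)
        map_mul' := fun a b => Subtype.ext (map_mul (φ t) (a : G) b) })
    fun s t => MulEquiv.ext fun x => Subtype.ext (by simp [MulAut.mul_apply])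

@[simp] theorem coe_restrictAut (φ : T →* MulAut G) (H : Subgroup G)
    (h : ∀ t, ∀ x ∈ H, φ t x ∈ H) (t : T) (x : H) :
    ((restrictAut φ H h t x : H) : G) = φ t x := rfl

/-- The action on a quotient by an invariant normal subgroup. -/
def quotAut (φ : T →* MulAut G) (N : Subgroup G) [N.Normal] (h : ∀ t, ∀ x ∈ N, φ t x ∈ N) :
    T →* MulAut (G ⧸ N) :=
  MonoidHom.mk'
    (fun t =>
      { toFun := QuotientGroup.map N N (φ t).toMonoidHom fun x hx => h t x hx
        invFun := QuotientGroup.map N N (φ t⁻¹).toMonoidHom fun x hx => h t⁻¹ x hx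
        left_inv := fun q => by
          obtain ⟨x, rfl⟩ := QuotientGroup.mk_surjective q
          simp
        right_inv := fun q => by
          obtain ⟨x, rfl⟩ := QuotientGroup.mk_surjective q
          simp
        map_mul' := fun a b => map_mul _ a b })
    fun s t => MulEquiv.ext fun q => by
      obtain ⟨x, rfl⟩ := QuotientGroup.mk_surjective q
      simp [MulAut.mul_apply]

@[simp] theorem quotAut_mk (φ : T →* MulAut G) (N : Subgroup G) [N.Normal]
    (h : ∀ t, ∀ x ∈ N, φ t x ∈ N) (t : T) (x : G) :
    quotAut φ N h t (x : G ⧸ N) = ((φ t x : G) : G ⧸ N) := rfl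

variable (φ : T →* MulAut G) (N : Subgroup G) [N.Normal] (hN : ∀ t, ∀ x ∈ N, φ t x ∈ N)

/-- Conjugating a fixed function by `φ t g`. -/
theorem conjFun_map {θ : N → ℂ} (hθ : IsFix (restrictAut φ N hN) θ) (t : T) (g : G) (n : N) :
    conjFun N θ (φ t g) (restrictAut φ N hN t n) = conjFun N θ g n := by
  refine Eq.trans ?_ (hθ t (MulAut.conjNormal g n))
  exact congrArg θ (Subtype.ext (by simp))

/-- If `θ` and its conjugate by `g` are fixed then `φ t g` gives the same conjugate. -/
theorem conjFun_map_eq {θ θ' : N → ℂ} (hθ : IsFix (restrictAut φ N hN) θ)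
    (hθ' : IsFix (restrictAut φ N hN) θ') {g : G} (hg : conjFun N θ g = θ') (t : T) :
    conjFun N θ (φ t g) = θ' := by
  funext n
  obtain ⟨m, rfl⟩ := (restrictAut φ N hN t).surjective n
  rw [conjFun_map φ N hN hθ, hg, hθ']

variable [Fintype G] [Fintype N] {p : ℕ} [hp : Fact p.Prime] [Finite T]

/-- A fixed character has a fixed constituent on an invariant normal subgroup of index prime to
`p`. -/
theorem exists_fix_constituent (hT : IsPGroup p T) (hidx : ¬ p ∣ N.index) {χ : IrrCharacter G}
    (hχ : IsFix φ χ.1) : ∃ θ : IrrCharacter N,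
      IsFix (restrictAut φ N hN) θ.1 ∧ classInner (resFun N χ.1) θ.1 ≠ 0 := by
  classical
  obtain ⟨θ, hθ⟩ := exists_constituent N χ
  letI := charAction (restrictAut φ N hN)
  let X : SubMulAction T (IrrCharacter N) :=
    { carrier := {η | classInner (resFun N χ.1) η.1 ≠ 0}
      smul_mem' := fun t η (hη : classInner (resFun N χ.1) η.1 ≠ 0) => by
        show classInner (resFun N χ.1) (t • η).1 ≠ 0
        refine fun h0 => hη (Eq.trans ?_ h0)
        simp only [classInner]
        congr 1
        refine (Fintype.sum_equiv (restrictAut φ N hN t⁻¹).toEquiv _ _ fun n => ?_).symm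
        show χ.1 n * conj (η.1 (restrictAut φ N hN t⁻¹ n)) =
          χ.1 (φ t⁻¹ n) * conj (η.1 (restrictAut φ N hN t⁻¹ n))
        rw [hχ] }
  have hX : ¬ p ∣ Nat.card X := by
    have h1 : Nat.card X = (inertia N θ.1).index := by
      rw [index_inertia, ← Nat.card_eq_finsetCard]
      refine Nat.card_congr (Equiv.subtypeEquivRight fun η => ?_)
      rw [mem_orbitFinset]
      constructor
      · exact fun h => exists_conjChar_of_constituents N χ θ η hθ h
      · rintro ⟨g, rfl⟩
        show classInner (resFun N χ.1) (conjChar N θ g).1 ≠ 0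
        rw [conjChar_coe, classInner_resFun_conjFun N
          (IsCharacter.isClassFunction (irr_isCharacter χ))]
        exact hθ
    rw [h1]
    exact fun h => hidx (h.trans (Subgroup.index_dvd_of_le (irr_le_inertia N θ)))
  obtain ⟨⟨η, hη⟩, hfix⟩ := hT.nonempty_fixed_point_of_prime_not_dvd_card X hX
  exact ⟨η, mem_fixedPoints_charAction.1 fun t => congrArg Subtype.val (hfix t), hη⟩

end Operators

/-- A character whose restriction is irreducible is irreducible. -/
theorem isIrrCharacter_of_resFun {G : Type u} [Group G] [Fintype G] {N : Subgroup G} [Fintype N]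
    {χ : G → ℂ} (hχ : IsCharacter G χ) (h : IsIrrCharacter N (resFun N χ)) :
    IsIrrCharacter G χ := by
  obtain ⟨n, ρ, rfl⟩ := hχ
  haveI : Representation.IsIrreducible (MonoidHom.comp ρ N.subtype) :=
    isIrreducible_of_classInner_eq_one _ (classInner_irr_self h)
  exact isIrrCharacter_character ρ
    (Clifford.isIrreducible_of_restrict (MonoidHom.comp ρ N.subtype) ρ fun _ => rfl)

/-- If all constituents of `χ` over `θ` reduce to one `ψ` of multiplicity one, only `ψ` contributes
to the multiplicity of a character over `θ`. -/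
theorem classInner_comp_eq {L : Type u} [Group L] [Fintype L] {U : Type v} [Group U] [Fintype U]
    {M : Type w} [Group M] [Fintype M] (f : U →* L) (g : M →* U) {χ : L → ℂ}
    (hχ : IsCharacter L χ) (ψ : IrrCharacter L) (ψ' : IrrCharacter U) (θ : IrrCharacter M)
    (h1 : classInner χ ψ.1 = 1)
    (h2 : classInner (fun m => χ (f (g m))) θ.1 = classInner (fun m => ψ.1 (f (g m))) θ.1)
    (h3 : classInner (fun m => ψ'.1 (g m)) θ.1 ≠ 0) :
    classInner (fun x => χ (f x)) ψ'.1 = classInner (fun x => ψ.1 (f x)) ψ'.1 := by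
  classical
  obtain ⟨m, hm, hm'⟩ := IsCharacter.exists_decomp hχ
  choose k hk using fun η : IrrCharacter L => IsCharacter.exists_nat_classInner
    (IsCharacter.comp (irr_isCharacter η) (f.comp g)) (irr_isCharacter θ)
  have hmψ : m ψ = 1 := by exact_mod_cast (hm' ψ).symm.trans h1
  have happ : ∀ x, χ x = ∑ η : IrrCharacter L, (m η : ℂ) * η.1 x := fun x => by
    simpa using congrFun hm x
  have hrest : ∑ η ∈ Finset.univ.erase ψ, m η * k η = 0 := by
    have h : ((∑ η, m η * k η : ℕ) : ℂ) = (k ψ : ℂ) := by
      refine Eq.trans ?_ (h2.trans (hk ψ))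
      rw [show (fun x => χ (f (g x))) = ∑ η : IrrCharacter L, (m η : ℂ) • fun x => η.1 (f (g x)) from
        funext fun x => by simp [happ], classInner_sum_left]
      push_cast
      exact Finset.sum_congr rfl fun η _ => by rw [classInner_smul_left, ← hk η]; rfl
    have h' : ∑ η, m η * k η = k ψ := by exact_mod_cast h
    rw [← Finset.add_sum_erase _ _ (Finset.mem_univ ψ), hmψ, one_mul] at h'
    omega
  rw [show (fun x => χ (f x)) = ∑ η : IrrCharacter L, (m η : ℂ) • fun x => η.1 (f x) from
      funext fun x => by simp [happ], classInner_sum_left, Finset.sum_eq_single ψ]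
  · rw [classInner_smul_left, hmψ, Nat.cast_one, one_mul]
  · intro η _ hne
    rw [classInner_smul_left]
    rcases Nat.mul_eq_zero.1
      (Finset.sum_eq_zero_iff.1 hrest η (Finset.mem_erase.2 ⟨hne, Finset.mem_univ η⟩)) with h | h
    · rw [h, Nat.cast_zero, zero_mul]
    · have h0 : classInner (fun x => η.1 (f (g x))) θ.1 = 0 := by
        rw [show (fun x => η.1 (f (g x))) = fun x => η.1 (f.comp g x) from rfl, hk η, h,
          Nat.cast_zero]
      rw [classInner_eq_zero_of_comp g (IsCharacter.comp (irr_isCharacter η) f) ψ' θ h0 h3,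
        mul_zero]
  · exact fun h => absurd (Finset.mem_univ ψ) h

end Cfsg.Agent.RelGlauberman
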