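import Cfsg.Agent.Lib.Glauberman.Solvable

/-!
# Operators given as subgroups of an ambient group
-/

namespace Cfsg.Agent.Glauberman

open Cfsg

variable {Γ : Type*} [Group Γ] [Finite Γ] {G S : Subgroup Γ}

/-- Conjugation of `G` by the elements of `S`. -/
noncomputable def conjOn (hnorm : ∀ s ∈ S, ∀ g ∈ G, s * g * s⁻¹ ∈ G) : S →* MulAut G :=
  MonoidHom.mk'
    (fun s =>
      { toFun := fun g => ⟨s * g * (s : Γ)⁻¹, hnorm s s.2 g g.2⟩
        invFun := fun g => ⟨(s : Γ)⁻¹ * g * s, by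
          simpa using hnorm (s : Γ)⁻¹ (S.inv_mem s.2) g g.2⟩
        left_inv := fun g => Subtype.ext (by simp [mul_assoc])
        right_inv := fun g => Subtype.ext (by simp [mul_assoc])
        map_mul' := fun a b => Subtype.ext (by simp [mul_assoc]) })
    fun s t => MulEquiv.ext fun g => Subtype.ext (by simp [mul_assoc])

@[simp] theorem coe_conjOn (hnorm : ∀ s ∈ S, ∀ g ∈ G, s * g * s⁻¹ ∈ G) (s : S) (g : G) :
    ((conjOn hnorm s g : G) : Γ) = s * g * (s : Γ)⁻¹ := rfl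

theorem isFix_conjOn_iff (hnorm : ∀ s ∈ S, ∀ g ∈ G, s * g * s⁻¹ ∈ G) (f : G → ℂ) :
    IsFix (conjOn hnorm) f ↔ ∀ s ∈ S, ∀ g g' : G, (g' : Γ) = s * g * s⁻¹ → f g' = f g := by
  constructor
  · intro h s hs g g' he
    have : g' = conjOn hnorm ⟨s, hs⟩ g := Subtype.ext he
    rw [this]; exact h _ _
  · intro h s g
    exact h s s.2 g _ rfl

end Cfsg.Agent.Glauberman
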