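import Mathlib.GroupTheory.PGroup
import Mathlib.RingTheory.IntegralClosure.Algebra.Basic
import Mathlib.RingTheory.IntegralClosure.IntegrallyClosed
import Mathlib.RingTheory.Localization.Integral
import Mathlib.Analysis.Complex.Basic
import Mathlib.LinearAlgebra.Matrix.NonsingularInverse
import Mathlib.RingTheory.Ideal.Quotient.Defs
import Mathlib.RingTheory.Int.Basic
import Mathlib.RingTheory.Polynomial.RationalRoot

/-!
# Congruences of algebraic integers modulo a rational prime

`PCong p x y` : `x - y` is `p` times an algebraic integer.  Orbit sums under `p`-groups reduce to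
sums over fixed points; a rational integer congruent to zero is divisible by `p`; an idempotent
complex matrix that is congruent to zero up to a factor prime to `p` vanishes.
-/

namespace Cfsg.Agent.Glauberman

set_option linter.style.haveILetI false

/-- `x` and `y` differ by `p` times an algebraic integer. -/
def PCong (p : ℕ) (x y : ℂ) : Prop := ∃ z : ℂ, IsIntegral ℤ z ∧ x - y = (p : ℂ) * z

variable {p : ℕ} {x y z x' y' : ℂ}

theorem PCong.refl (x : ℂ) : PCong p x x := ⟨0, isIntegral_zero, by simp⟩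

theorem PCong.of_eq (h : x = y) : PCong p x y := h ▸ PCong.refl x

theorem PCong.symm (h : PCong p x y) : PCong p y x := by
  obtain ⟨z, hz, he⟩ := h
  exact ⟨-z, hz.neg, by rw [mul_neg, ← he]; ring⟩

theorem PCong.trans (h : PCong p x y) (h' : PCong p y z) : PCong p x z := by
  obtain ⟨a, ha, he⟩ := h
  obtain ⟨b, hb, he'⟩ := h'
  exact ⟨a + b, ha.add hb, by rw [mul_add, ← he, ← he']; ring⟩

theorem PCong.add (h : PCong p x y) (h' : PCong p x' y') : PCong p (x + x') (y + y') := by
  obtain ⟨a, ha, he⟩ := h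
  obtain ⟨b, hb, he'⟩ := h'
  exact ⟨a + b, ha.add hb, by rw [mul_add, ← he, ← he']; ring⟩

theorem PCong.mul_left {a : ℂ} (ha : IsIntegral ℤ a) (h : PCong p x y) :
    PCong p (a * x) (a * y) := by
  obtain ⟨b, hb, he⟩ := h
  exact ⟨a * b, ha.mul hb, by rw [mul_left_comm, ← he]; ring⟩

theorem PCong.mul_right {a : ℂ} (ha : IsIntegral ℤ a) (h : PCong p x y) :
    PCong p (x * a) (y * a) := by
  rw [mul_comm x, mul_comm y]; exact h.mul_left ha

theorem PCong.sum {ι : Type*} (s : Finset ι) {f g : ι → ℂ} (h : ∀ i ∈ s, PCong p (f i) (g i)) :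
    PCong p (∑ i ∈ s, f i) (∑ i ∈ s, g i) := by
  classical
  induction s using Finset.induction_on with
  | empty => simpa using PCong.refl 0
  | insert a s ha ih =>
    rw [Finset.sum_insert ha, Finset.sum_insert ha]
    exact (h a (Finset.mem_insert_self a s)).add (ih fun i hi => h i (Finset.mem_insert_of_mem hi))

/-- A multiple of `p` is congruent to zero. -/
theorem PCong.of_int_dvd {n : ℤ} (h : (p : ℤ) ∣ n) {a : ℂ} (ha : IsIntegral ℤ a) :
    PCong p ((n : ℂ) * a) 0 := by
  obtain ⟨k, rfl⟩ := h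
  exact ⟨(k : ℂ) * a, (isIntegral_intCast k).mul ha, by push_cast; ring⟩

theorem PCong.of_nat_dvd {n : ℕ} (h : p ∣ n) {a : ℂ} (ha : IsIntegral ℤ a) :
    PCong p ((n : ℂ) * a) 0 := by
  have := PCong.of_int_dvd (n := (n : ℤ)) (Int.natCast_dvd_natCast.2 h) ha
  simpa using this

/-- A rational integer congruent to zero is divisible by `p`. -/
theorem dvd_of_pCong_zero [hp : Fact p.Prime] {n : ℤ} (h : PCong p (n : ℂ) 0) : (p : ℤ) ∣ n := by
  obtain ⟨z, hz, he⟩ := h
  rw [sub_zero] at he
  have hp0 : (p : ℚ) ≠ 0 := Nat.cast_ne_zero.2 hp.out.ne_zero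
  have hzq : z = (((n : ℚ) / p : ℚ) : ℂ) := by
    push_cast
    rw [eq_div_iff (Nat.cast_ne_zero.2 hp.out.ne_zero), he]
    ring
  have hq : IsIntegral ℤ ((n : ℚ) / p) := by
    have h1 : IsIntegral ℤ (algebraMap ℚ ℂ ((n : ℚ) / p)) := by
      rw [eq_ratCast, ← hzq]; exact hz
    exact (isIntegral_algebraMap_iff (algebraMap ℚ ℂ).injective).1 h1
  obtain ⟨k, hk⟩ := IsIntegrallyClosed.isIntegral_iff.1 hq
  refine ⟨k, ?_⟩
  simp only [algebraMap_int_eq, eq_intCast] at hk
  rw [eq_div_iff hp0] at hk
  have : k * (p : ℤ) = n := by exact_mod_cast hk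
  rw [← this, mul_comm]

theorem dvd_sub_of_pCong [Fact p.Prime] {m n : ℤ} (h : PCong p (m : ℂ) (n : ℂ)) :
    (p : ℤ) ∣ m - n := by
  obtain ⟨z, hz, he⟩ := h
  exact dvd_of_pCong_zero ⟨z, hz, by push_cast; rw [sub_zero]; exact he⟩

theorem not_pCong_zero_of_not_dvd [Fact p.Prime] {n : ℕ} (h : ¬ p ∣ n) :
    ¬ PCong p (n : ℂ) 0 := fun hc => h <| by
  have := dvd_of_pCong_zero (n := (n : ℤ)) (by simpa using hc)
  exact_mod_cast this

/-- Cancel an integer prime to `p`. -/
theorem PCong.cancel [hp : Fact p.Prime] {n : ℤ} (hn : ¬ (p : ℤ) ∣ n) (hx : IsIntegral ℤ x)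
    (h : PCong p ((n : ℂ) * x) 0) : PCong p x 0 := by
  have hcop : IsCoprime n (p : ℤ) := ((Nat.prime_iff_prime_int.1 hp.out).coprime_iff_not_dvd.2 hn).symm
  obtain ⟨u, v, huv⟩ := hcop
  have h1 : x = (u : ℂ) * ((n : ℂ) * x) + (((v * p : ℤ)) : ℂ) * x := by
    have : ((u * n + v * p : ℤ) : ℂ) = 1 := by rw [huv]; simp
    calc x = ((u * n + v * p : ℤ) : ℂ) * x := by rw [this, one_mul]
      _ = _ := by push_cast; ring
  rw [h1]
  simpa using (h.mul_left (isIntegral_intCast u)).add
    (PCong.of_int_dvd (dvd_mul_left (p : ℤ) v) hx)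

/-- A sum over a finite set with a `p`-group action reduces to the sum over the fixed points. -/
theorem pCong_sum_fixedPoints {S α : Type*} [Group S] [Finite S] [MulAction S α] [Fintype α]
    [hp : Fact p.Prime] (hS : IsPGroup p S) (f : α → ℂ) (hf : ∀ (s : S) (a : α), f (s • a) = f a)
    (hint : ∀ a, IsIntegral ℤ (f a)) [DecidablePred (· ∈ MulAction.fixedPoints S α)] :
    PCong p (∑ a, f a)
      (∑ a ∈ Finset.univ.filter (fun a : α => a ∈ MulAction.fixedPoints S α), f a) := by
  classical
  rw [← Finset.sum_filter_add_sum_filter_not Finset.univ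
    (fun a : α => a ∈ MulAction.fixedPoints S α) f]
  suffices h : PCong p (∑ a ∈ Finset.univ.filter
      (fun a : α => ¬ a ∈ MulAction.fixedPoints S α), f a) 0 by
    simpa using (PCong.refl _).add h
  letI := MulAction.orbitRel S α
  rw [← Finset.sum_fiberwise (Finset.univ.filter
      (fun a : α => ¬ a ∈ MulAction.fixedPoints S α))
    (fun a => (Quotient.mk (MulAction.orbitRel S α) a : MulAction.orbitRel.Quotient S α)) f]
  have h0 : (0 : ℂ) = ∑ _j : MulAction.orbitRel.Quotient S α, (0 : ℂ) := by simp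
  rw [h0]
  refine PCong.sum _ fun j _ => ?_
  induction j using Quotient.inductionOn with
  | _ b =>
  by_cases hb : b ∈ MulAction.fixedPoints S α
  · rw [Finset.sum_eq_zero fun a ha => ?_]
    · exact PCong.refl 0
    rw [Finset.mem_filter, Finset.mem_filter] at ha
    obtain ⟨⟨-, hna⟩, hab⟩ := ha
    obtain ⟨s, hs⟩ := MulAction.orbitRel_apply.1 (Quotient.exact hab)
    exact absurd ((show a = b from hs.symm.trans (hb s)) ▸ hb) hna
  · have hset : (Finset.univ.filter (fun a : α => ¬ a ∈ MulAction.fixedPoints S α)).filter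
        (fun a => (Quotient.mk (MulAction.orbitRel S α) a : MulAction.orbitRel.Quotient S α) =
          Quotient.mk (MulAction.orbitRel S α) b) = (MulAction.orbit S b).toFinset := by
      ext a
      simp only [Finset.mem_filter, Finset.mem_univ, true_and, Set.mem_toFinset]
      constructor
      · rintro ⟨-, h⟩
        exact MulAction.orbitRel_apply.1 (Quotient.exact h)
      · intro h
        refine ⟨fun ha => hb ?_, Quotient.sound (MulAction.orbitRel_apply.2 h)⟩
        obtain ⟨s, rfl⟩ := h
        intro t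
        have h1 : ∀ u : S, u • (s • b) = s • b := ha
        have h2 : t • b = (t * s⁻¹) • (s • b) := by rw [← mul_smul, inv_mul_cancel_right]
        have h3 : b = s⁻¹ • (s • b) := (inv_smul_smul s b).symm
        rw [h2, h1]
        conv_rhs => rw [h3, h1]
    have hconst : ∀ a ∈ (MulAction.orbit S b).toFinset, f a = f b := by
      intro a ha
      obtain ⟨s, rfl⟩ := Set.mem_toFinset.1 ha
      exact hf s b
    rw [hset, Finset.sum_congr rfl hconst, Finset.sum_const, Set.toFinset_card, nsmul_eq_mul]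
    refine PCong.of_nat_dvd ?_ (hint b)
    rw [← Nat.card_eq_fintype_card]
    obtain ⟨k, hk⟩ := hS.card_orbit b
    rw [hk]
    refine dvd_pow_self p fun hk0 => hb fun s => ?_
    rw [hk0, pow_zero, Nat.card_eq_one_iff_unique] at hk
    exact congrArg Subtype.val
      (hk.1.elim (⟨s • b, MulAction.mem_orbit b s⟩ : MulAction.orbit S b)
        ⟨b, MulAction.mem_orbit_self b⟩)

/-- An idempotent matrix which, up to a factor prime to `p`, is congruent to zero, vanishes. -/
theorem eq_zero_of_isIdempotent_of_pCong [hp : Fact p.Prime] {n : Type*} [Fintype n]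
    [DecidableEq n] (P : Matrix n n ℂ) (hP : P * P = P) {L : ℕ} (hL : ¬ p ∣ L)
    (h : ∀ i j, PCong p ((L : ℂ) * P i j) 0) : P = 0 := by
  choose z hz hzP using h
  let A := integralClosure ℤ ℂ
  let Z : Matrix n n A := Matrix.of fun i j => ⟨z i j, hz i j⟩
  let N : Matrix n n A := (L : A) • (1 : Matrix n n A) - (p : A) • Z
  have hmap : A.val.toRingHom.mapMatrix N = (L : ℂ) • (1 - P) := by
    ext i j
    have e := hzP i j
    rw [sub_zero] at e
    simp only [N, RingHom.mapMatrix_apply, Matrix.map_apply, Matrix.sub_apply, Matrix.smul_apply,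
      smul_eq_mul, map_sub, map_mul, map_natCast, Matrix.one_apply]
    have hval : A.val.toRingHom (Z i j) = z i j := rfl
    rw [hval, ← e]
    split_ifs <;> simp <;> ring
  have hdet : N.det ≠ 0 := by
    intro h0
    let π := Ideal.Quotient.mk (Ideal.span ({(p : A)} : Set A))
    have h1 := π.map_det N
    rw [h0, map_zero] at h1
    have h2 : π.mapMatrix N = (L : A ⧸ Ideal.span ({(p : A)} : Set A)) • 1 := by
      ext i j
      have hp0 : π (p : A) = 0 :=
        Ideal.Quotient.eq_zero_iff_mem.2 (Ideal.subset_span (Set.mem_singleton _))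
      simp only [N, RingHom.mapMatrix_apply, Matrix.map_apply, Matrix.sub_apply, Matrix.smul_apply,
        smul_eq_mul, map_sub, map_mul, hp0, zero_mul, sub_zero, map_natCast, Matrix.one_apply]
      split_ifs <;> simp
    rw [h2, Matrix.det_smul, Matrix.det_one, mul_one, ← Nat.cast_pow] at h1
    have h3 : π ((L ^ Fintype.card n : ℕ) : A) = 0 := by rw [map_natCast]; exact h1.symm
    rw [Ideal.Quotient.eq_zero_iff_mem, Ideal.mem_span_singleton] at h3
    obtain ⟨c, hc⟩ := h3
    refine not_pCong_zero_of_not_dvd (n := L ^ Fintype.card n)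
      (fun hd => hL (hp.out.dvd_of_dvd_pow hd)) ⟨(c : ℂ), c.2, ?_⟩
    rw [sub_zero]
    have hc' := congrArg (fun a : A => A.val.toRingHom a) hc
    simpa using hc'
  have hdetC : ((L : ℂ) • (1 - P)).det ≠ 0 := by
    rw [← hmap, ← RingHom.map_det]
    exact fun h0 => hdet (Subtype.val_injective (h0.trans A.val.toRingHom.map_zero.symm))
  have hzero : ((L : ℂ) • (1 - P)) * P = 0 := by
    rw [Matrix.smul_mul, Matrix.sub_mul, one_mul, hP, sub_self, smul_zero]
  have hu : IsUnit ((L : ℂ) • (1 - P)) :=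
    (Matrix.isUnit_iff_isUnit_det _).2 (isUnit_iff_ne_zero.2 hdetC)
  exact hu.mul_right_eq_zero.1 hzero

end Cfsg.Agent.Glauberman
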