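import Cfsg.Agent.Lib.Glauberman.CyclicCoset
import Cfsg.Agent.Lib.Glauberman.Operators
import Cfsg.Agent.Lib.Clifford.CoprimeExtension
import Cfsg.Agent.Lib.Char.KernelSum
import Cfsg.Agent.Lib.Char.Product
import Cfsg.Agent.Lib.Char.Linear
import Cfsg.Agent.Lib.CharInt.Galois
import Cfsg.Prelude.Def_CharExt

/-!
# The Glauberman correspondence for a cyclic group of operators

For `Γ = G S` with `S` cyclic of order prime to `|G|`, the canonical extensions of the invariant
characters of `G` restrict on a coset `C y` to signed irreducible characters of the centralizer.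
-/

set_option autoImplicit false
set_option linter.style.haveILetI false
set_option linter.unusedSectionVars false

namespace Cfsg.Agent.GlauCyclic

open Cfsg
open scoped ComplexConjugate

universe u

/-- `Γ` is the product of the normal subgroup `G` and the subgroup `S` of coprime order. -/
structure CopData {Γ : Type u} [Group Γ] (G S : Subgroup Γ) : Prop where
  cop : (Nat.card G).Coprime (Nat.card S)
  top : G ⊔ S = ⊤

variable {Γ : Type u} [Group Γ] [Fintype Γ] {G S : Subgroup Γ}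

theorem normal_of_hnorm (hnorm : ∀ s ∈ S, ∀ g ∈ G, s * g * s⁻¹ ∈ G) (htop : G ⊔ S = ⊤) :
    G.Normal := by
  rw [← Subgroup.normalizer_eq_top_iff, eq_top_iff, ← htop, sup_le_iff]
  refine ⟨Subgroup.le_normalizer, fun s hs => ?_⟩
  rw [Subgroup.mem_normalizer_iff]
  intro g
  refine ⟨hnorm s hs g, fun h => ?_⟩
  have := hnorm s⁻¹ (S.inv_mem hs) _ h
  simpa [mul_assoc] using this

variable [G.Normal] [Fintype G]

theorem CopData.exists_eq_mul (D : CopData G S) (x : Γ) : ∃ a ∈ G, ∃ s ∈ S, a * s = x :=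
  Subgroup.mem_sup_of_normal_left.1 (D.top ▸ Subgroup.mem_top x)

theorem CopData.isComplement' (D : CopData G S) : Subgroup.IsComplement' G S :=
  Subgroup.isComplement'_of_disjoint_and_mul_eq_univ (Subgroup.disjoint_of_coprime_natCard D.cop)
    (by rw [← Subgroup.normal_mul, D.top, Subgroup.coe_top])

theorem CopData.index_eq (D : CopData G S) : G.index = Nat.card S :=
  D.isComplement'.symm.index_eq_card

theorem CopData.card_eq (D : CopData G S) : Nat.card Γ = Nat.card G * Nat.card S :=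
  D.isComplement'.card_mul_card.symm

/-- Invariance under the operators. -/
def Inv (S : Subgroup Γ) (χ : G → ℂ) : Prop :=
  ∀ s ∈ S, ∀ g g' : G, (g' : Γ) = s * g * s⁻¹ → χ g' = χ g

/-- `χh` is the canonical extension of `χ`. -/
def Canon (S : Subgroup Γ) (χ : IrrCharacter G) (χh : IrrCharacter Γ) : Prop :=
  (∀ g : G, χh.1 g = χ.1 g) ∧ (detOrder χh.1).Coprime (Nat.card S)

theorem detChar_eq_clifford (χ : IrrCharacter Γ) (x : Γ) :
    Cfsg.detChar χ.1 x = Clifford.detChar χ x := by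
  have h : IsCharacter Γ χ.1 := Char.irr_isCharacter χ
  rw [Cfsg.detChar, dif_pos h]
  exact (Clifford.detChar_eq χ _ (Classical.choose_spec (Classical.choose_spec h)) x).symm

theorem det_pow_of_coprime (D : CopData G S) (χh : IrrCharacter Γ)
    (h : (detOrder χh.1).Coprime (Nat.card S)) (x : Γ) :
    Clifford.detChar χh x ^ Nat.card G = 1 := by
  obtain ⟨a, ha, s, hs, rfl⟩ := D.exists_eq_mul x
  have h1 : Clifford.detChar χh a ^ Nat.card G = 1 := by
    rw [← map_pow, show a ^ Nat.card G = 1 from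
      congrArg Subtype.val (pow_card_eq_one' (x := (⟨a, ha⟩ : G))), map_one]
  have h2 : Clifford.detChar χh s = 1 := by
    have hk : Clifford.detChar χh s ^ Nat.card S = 1 := by
      rw [← map_pow, show s ^ Nat.card S = 1 from
        congrArg Subtype.val (pow_card_eq_one' (x := (⟨s, hs⟩ : S))), map_one]
    have hd : Clifford.detChar χh s ^ detOrder χh.1 = 1 := by
      rw [← detChar_eq_clifford]
      exact congrFun (pow_orderOf_eq_one (Cfsg.detChar χh.1)) s
    have hg := pow_gcd_eq_one.2 ⟨hd, hk⟩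
    rwa [Nat.coprime_iff_gcd_eq_one.1 h, pow_one] at hg
  rw [map_mul, mul_pow, h1, h2, one_pow, one_mul]

theorem coprime_detOrder (D : CopData G S) (χh : IrrCharacter Γ)
    (h : ∀ x, Clifford.detChar χh x ^ Nat.card G = 1) :
    (detOrder χh.1).Coprime (Nat.card S) := by
  refine D.cop.coprime_dvd_left (orderOf_dvd_of_pow_eq_one (funext fun x => ?_))
  rw [Pi.pow_apply, detChar_eq_clifford, h]
  rfl

theorem Inv.conjFun_eq (D : CopData G S) {χ : IrrCharacter G} (hχ : Inv S χ.1) (x : Γ) :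
    Char.conjFun G χ.1 x = χ.1 := by
  obtain ⟨a, ha, s, hs, rfl⟩ := D.exists_eq_mul x
  funext g
  have h1 : MulAut.conjNormal (a * s) g =
      (⟨a, ha⟩ : G) * MulAut.conjNormal s g * (⟨a, ha⟩ : G)⁻¹ :=
    Subtype.ext (by simp [MulAut.conjNormal_apply, mul_assoc])
  show χ.1 (MulAut.conjNormal (a * s) g) = χ.1 g
  rw [h1, Char.IsCharacter.isClassFunction (Char.irr_isCharacter χ)]
  exact hχ s hs g _ (MulAut.conjNormal_apply s g)

theorem inv_of_extension {χ : IrrCharacter G} {χh : IrrCharacter Γ}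
    (h : ∀ g : G, χh.1 g = χ.1 g) : Inv S χ.1 := fun s _ g g' he => by
  rw [← h, ← h, he, Char.IsCharacter.isClassFunction (Char.irr_isCharacter χh)]

theorem exists_canon (D : CopData G S) {χ : IrrCharacter G} (hχ : Inv S χ.1) :
    ∃ χh, Canon S χ χh := by
  obtain ⟨χh, ⟨h1, h2⟩, -⟩ := Clifford.existsUnique_extension_of_coprime_card χ
    (hχ.conjFun_eq D) (D.index_eq ▸ D.cop.symm)
  exact ⟨χh, h1, coprime_detOrder D χh h2⟩

theorem canon_unique (D : CopData G S) {χ : IrrCharacter G} {χh χh' : IrrCharacter Γ}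
    (h : Canon S χ χh) (h' : Canon S χ χh') : χh = χh' :=
  (Clifford.existsUnique_extension_of_coprime_card χ ((inv_of_extension (S := S) h.1).conjFun_eq D)
    (D.index_eq ▸ D.cop.symm)).unique ⟨h.1, det_pow_of_coprime D χh h.2⟩
    ⟨h'.1, det_pow_of_coprime D χh' h'.2⟩

/-- Applying a field endomorphism to a character applies it to the determinant. -/
theorem exists_map_irr (χ : IrrCharacter Γ) (f : ℂ →+* ℂ) :
    ∃ ψ : IrrCharacter Γ, (∀ x, ψ.1 x = f (χ.1 x)) ∧
      ∀ x, Clifford.detChar ψ x = f (Clifford.detChar χ x) := by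
  refine ⟨⟨_, CharInt.isIrrCharacter_map χ.2 f⟩, fun x => rfl, fun x => ?_⟩
  obtain ⟨n, ρ, hρ, hχ⟩ := χ.2
  let A : Γ →* Matrix (Fin n) (Fin n) ℂ :=
    (f.mapMatrix.toMonoidHom).comp ((LinearMap.toMatrixAlgEquiv
      (Pi.basisFun ℂ (Fin n))).toAlgHom.toMonoidHom.comp ρ)
  let τ : Representation ℂ Γ (Fin n → ℂ) :=
    (Matrix.toLinAlgEquiv (Pi.basisFun ℂ (Fin n))).toAlgHom.toMonoidHom.comp A
  have hτ : τ.character = fun y => f (χ.1 y) := by
    funext y
    rw [← hχ]
    simp only [Representation.character, LinearMap.trace_eq_matrix_trace ℂ (Pi.basisFun ℂ (Fin n))]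
    change Matrix.trace (LinearMap.toMatrixAlgEquiv (Pi.basisFun ℂ (Fin n))
      (Matrix.toLinAlgEquiv (Pi.basisFun ℂ (Fin n)) (A y))) = _
    rw [LinearMap.toMatrixAlgEquiv_toLinAlgEquiv]
    exact (AddMonoidHom.map_trace f.toAddMonoidHom _).symm
  rw [Clifford.detChar_eq _ τ hτ, Clifford.detChar_eq χ ρ hχ,
    ← LinearMap.det_toMatrix (Pi.basisFun ℂ (Fin n)) (ρ x), RingHom.map_det]
  show LinearMap.det (Matrix.toLinAlgEquiv (Pi.basisFun ℂ (Fin n)) (A x)) = _
  rw [← LinearMap.det_toMatrix (Pi.basisFun ℂ (Fin n))]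
  exact congrArg Matrix.det (LinearMap.toMatrixAlgEquiv_toLinAlgEquiv _ _)

theorem canon_pow (D : CopData G S) {χ : IrrCharacter G} {χh : IrrCharacter Γ}
    (h : Canon S χ χh) {m : ℕ} (hm : m.Coprime (Nat.card Γ))
    (hm' : m ≡ 1 [MOD Nat.card G]) (x : Γ) : χh.1 (x ^ m) = χh.1 x := by
  obtain ⟨f, hf⟩ := CharInt.exists_ringHom_pow Nat.card_pos.ne' hm
  obtain ⟨ψ, hψ, hψd⟩ := exists_map_irr χh f
  have hψx : ∀ y, ψ.1 y = χh.1 (y ^ m) := fun y => by
    rw [hψ, CharInt.map_char_eq_pow (Char.irr_isCharacter χh) hf]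
  have hext : ∀ g : G, ψ.1 g = χ.1 g := fun g => by
    have hg : g ^ m = g := by
      conv_rhs => rw [← pow_one g]
      exact pow_eq_pow_iff_modEq.2 (hm'.of_dvd (orderOf_dvd_natCard g))
    rw [hψx, ← SubgroupClass.coe_pow, hg, h.1]
  have hψc : Canon S χ ψ := ⟨hext, coprime_detOrder D ψ fun y => by
    rw [hψd, ← map_pow, det_pow_of_coprime D χh h.2, map_one]⟩
  rw [← hψx, canon_unique D hψc h]

theorem coprime_orderOf (D : CopData G S) {y : Γ} (hy : y ∈ S) :
    (Nat.card G).Coprime (orderOf y) := by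
  refine D.cop.coprime_dvd_right ?_
  rw [← Subgroup.orderOf_mk y hy]
  exact orderOf_dvd_natCard _

/-- The values on `c y` only depend on the subgroup generated by `y`. -/
theorem canon_apply_pow (D : CopData G S) {χ : IrrCharacter G} {χh : IrrCharacter Γ}
    (h : Canon S χ χh) {y : Γ} (hy : y ∈ S) {j : ℕ} (hj : j.Coprime (orderOf y)) {c : Γ}
    (hc : c ∈ G) (hcy : Commute c y) : χh.1 (c * y ^ j) = χh.1 (c * y) := by
  obtain ⟨j', hj', hjj'⟩ := CharInt.exists_coprime_pow_eq (⟨y, hy⟩ : S)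
    (by rwa [Subgroup.orderOf_mk y hy])
  obtain ⟨m, hm1, hm2⟩ := Nat.chineseRemainder D.cop 1 j'
  have hmk : m.Coprime (Nat.card Γ) := by
    rw [D.card_eq]
    refine Nat.Coprime.mul_right ?_ ?_
    · rw [Nat.coprime_iff_gcd_eq_one, hm1.gcd_eq, Nat.gcd_one_left]
    · rw [Nat.coprime_iff_gcd_eq_one, hm2.gcd_eq]
      exact Nat.coprime_iff_gcd_eq_one.1 hj'
  rw [← canon_pow D h hmk hm1 (c * y), hcy.mul_pow]
  have h1 : c ^ m = c := by
    conv_rhs => rw [← pow_one c]
    refine pow_eq_pow_iff_modEq.2 (hm1.of_dvd ?_)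
    rw [← Subgroup.orderOf_mk c hc]
    exact orderOf_dvd_natCard _
  have h2 : y ^ m = y ^ j := by
    have h3 : (⟨y, hy⟩ : S) ^ m = (⟨y, hy⟩ : S) ^ j' :=
      pow_eq_pow_iff_modEq.2 (hm2.of_dvd (orderOf_dvd_natCard _))
    exact congrArg Subtype.val (h3.trans hjj')
  rw [h1, h2]

/-- Orthogonality of extensions on every coset. -/
theorem sum_coset_mul_conj_eq (χ χ' : IrrCharacter G) (hne : χ ≠ χ') (χh χh' : IrrCharacter Γ)
    (h : ∀ g : G, χh.1 g = χ.1 g) (h' : ∀ g : G, χh'.1 g = χ'.1 g) (y : Γ) :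
    ∑ g : G, χh.1 ((g : Γ) * y) * conj (χh'.1 ((g : Γ) * y)) = 0 := by
  classical
  obtain ⟨m, hm, -⟩ := Char.IsCharacter.exists_decomp (Char.IsCharacter.mul
    (Char.irr_isCharacter χh) (Char.IsCharacter.conj (Char.irr_isCharacter χh')))
  have hval : ∀ z, χh.1 z * conj (χh'.1 z) = ∑ ψ : IrrCharacter Γ, (m ψ : ℂ) * ψ.1 z := fun z => by
    have := congrFun hm z
    simpa [Finset.sum_apply] using this
  have hz : ∀ ψ : IrrCharacter Γ, ∀ z, m ψ = 0 ∨ ∑ g : G, ψ.1 (z * g) = 0 := by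
    have h0 : ∑ ψ : IrrCharacter Γ, (m ψ : ℂ) * ∑ g : G, ψ.1 g = 0 := by
      calc _ = ∑ g : G, χ.1 g * conj (χ'.1 g) := by
            simp only [Finset.mul_sum]
            rw [Finset.sum_comm]
            exact Finset.sum_congr rfl fun g _ => by rw [← hval, h, h']
        _ = 0 := by
            have := Char.classInner_irr_of_ne χ.2 χ'.2 fun e => hne (Subtype.ext e)
            rw [classInner, mul_eq_zero, inv_eq_zero] at this
            exact this.resolve_left Char.card_ne_zero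
    have h1 : ∀ ψ : IrrCharacter Γ, ∑ g : G, ψ.1 g =
        ((if Char.TrivOn G ψ.1 then Nat.card G * Char.degree ψ else 0 : ℕ) : ℂ) := fun ψ => by
      by_cases ht : Char.TrivOn G ψ.1
      · rw [if_pos ht, Finset.sum_congr rfl fun (g : G) _ => ht g g.2, Finset.sum_const, Finset.card_univ,
          nsmul_eq_mul, Nat.card_eq_fintype_card, Char.apply_one_eq_degree]
        push_cast
        rfl
      · rw [if_neg ht, Nat.cast_zero]
        simpa using Char.sum_coset_eq_zero_of_not_trivOn G ψ ht 1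
    simp only [h1] at h0
    have h2 : ∑ ψ : IrrCharacter Γ,
        m ψ * (if Char.TrivOn G ψ.1 then Nat.card G * Char.degree ψ else 0) = 0 := by
      exact_mod_cast h0
    intro ψ z
    by_cases ht : Char.TrivOn G ψ.1
    · left
      have h3 := (Finset.sum_eq_zero_iff.1 h2) ψ (Finset.mem_univ ψ)
      rw [if_pos ht] at h3
      exact (Nat.mul_eq_zero.1 h3).resolve_right
        (Nat.mul_ne_zero Nat.card_pos.ne' (Char.degree_pos ψ).ne')
    · exact Or.inr (Char.sum_coset_eq_zero_of_not_trivOn G ψ ht z)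
  simp only [hval]
  rw [Finset.sum_comm]
  refine Finset.sum_eq_zero fun ψ _ => ?_
  rw [← Finset.mul_sum]
  rcases hz ψ y with h0 | h0
  · rw [h0, Nat.cast_zero, zero_mul]
  · rw [Finset.sum_congr rfl fun (g : G) _ =>
      Char.IsClassFunction.apply_mul_comm
        (Char.IsCharacter.isClassFunction (Char.irr_isCharacter ψ)) (g : Γ) y, h0, mul_zero]

variable {C : Subgroup Γ} [Fintype C]

/-- The function `c ↦ χh (c y)` on `C`. -/
def res (C : Subgroup Γ) (χh : Γ → ℂ) (y : Γ) : C → ℂ := fun c => χh ((c : Γ) * y)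

theorem isClassFunction_res {y : Γ} (hCy : ∀ c ∈ C, Commute c y) {χh : Γ → ℂ}
    (h : IsClassFunction Γ χh) : IsClassFunction C (res C χh y) := fun a b => by
  show χh (((b * a * b⁻¹ : C) : Γ) * y) = χh ((a : Γ) * y)
  rw [← h ((a : Γ) * y) (b : Γ)]
  congr 1
  push_cast
  rw [mul_assoc, mul_assoc, mul_assoc (b : Γ), mul_assoc (a : Γ),
    ((hCy _ b.2).symm.inv_right).eq]

theorem classInner_res (D : CopData G S) {y : Γ} (hy : y ∈ S)
    (hC : ∀ c, c ∈ C ↔ c ∈ G ∧ Commute c y) {χ χ' : IrrCharacter G} {χh χh' : IrrCharacter Γ}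
    (h : Canon S χ χh) (h' : Canon S χ' χh') [Decidable (χ = χ')] :
    classInner (res C χh.1 y) (res C χh'.1 y) = if χ = χ' then 1 else 0 := by
  have hsum := card_mul_sum_coset (R := ℂ) (D := G) (CD := C) (s := y)
    (fun d hd => Subgroup.Normal.conj_mem inferInstance d hd y) (coprime_orderOf D hy) hC
    (fun z => χh.1 z * conj (χh'.1 z)) fun d _ z => by
      rw [Char.IsCharacter.isClassFunction (Char.irr_isCharacter χh),
        Char.IsCharacter.isClassFunction (Char.irr_isCharacter χh')]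
  have hC0 : (Nat.card C : ℂ) ≠ 0 := Char.card_ne_zero
  have hG0 : (Nat.card G : ℂ) ≠ 0 := Char.card_ne_zero
  show (Nat.card C : ℂ)⁻¹ * ∑ c : C, χh.1 ((c : Γ) * y) * conj (χh'.1 ((c : Γ) * y)) = _
  by_cases he : χ = χ'
  · subst he
    rw [if_pos rfl]
    obtain rfl := canon_unique D h h'
    have h1 : ∑ g : G, χh.1 ((g : Γ) * y) * conj (χh.1 ((g : Γ) * y)) = (Nat.card G : ℂ) := by
      rw [← Char.sum_coset_mul_conj G χh
        (show IsIrrCharacter G (Char.resFun G χh.1) by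
          rw [show Char.resFun G χh.1 = χ.1 from funext h.1]; exact χ.2) y]
      refine Finset.sum_congr rfl fun g _ => ?_
      rw [Char.IsClassFunction.apply_mul_comm
        (Char.IsCharacter.isClassFunction (Char.irr_isCharacter χh)) (g : Γ) y]
    rw [h1, mul_comm (Nat.card C : ℂ)] at hsum
    rw [← mul_left_cancel₀ hG0 hsum, inv_mul_cancel₀ hC0]
  · rw [if_neg he]
    rw [sum_coset_mul_conj_eq χ χ' he χh χh' h.1 h'.1 y, mul_zero] at hsum
    rw [(mul_eq_zero.1 hsum.symm).resolve_left hG0, mul_zero]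

/-- The coefficient of `γ` in `c ↦ χh (c x)`. -/
noncomputable def coef (S C : Subgroup Γ) [Fintype C] (χh : Γ → ℂ) (γ : C → ℂ) : S → ℂ :=
  fun x => classInner (res C χh (x : Γ)) γ

theorem isCharacter_coef (hCS : ∀ c ∈ C, ∀ x ∈ S, Commute c x) (χh : IrrCharacter Γ)
    (γ : IrrCharacter C) : IsCharacter S (coef S C χh.1 γ.1) := by
  classical
  haveI : Fintype S := Fintype.ofFinite S
  let j : C × S →* Γ := MonoidHom.noncommCoprod C.subtype S.subtype fun c x => hCS c c.2 x x.2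
  obtain ⟨m, hm, -⟩ := Char.IsCharacter.exists_decomp
    (Char.IsCharacter.comp (Char.irr_isCharacter χh) j)
  choose φ η hφ hη he using fun ψ : IrrCharacter (C × S) => Char.exists_eq_prod_mul ψ.2
  have heq : coef S C χh.1 γ.1 = ∑ ψ : IrrCharacter (C × S),
      ((m ψ * (if φ ψ = γ.1 then 1 else 0) : ℕ) : ℂ) • η ψ := by
    funext x
    have hres : res C χh.1 (x : Γ) = ∑ ψ : IrrCharacter (C × S), ((m ψ : ℂ) * η ψ x) • φ ψ := by
      funext c
      have := congrFun hm (c, x)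
      simp only [Finset.sum_apply, Pi.smul_apply, smul_eq_mul, he] at this
      show χh.1 (j (c, x)) = _
      refine this.trans ?_
      simp only [Finset.sum_apply, Pi.smul_apply, smul_eq_mul]
      exact Finset.sum_congr rfl fun ψ _ => by ring
    show classInner (res C χh.1 (x : Γ)) γ.1 = _
    rw [hres, Char.classInner_sum_left]
    simp only [Finset.sum_apply, Pi.smul_apply, smul_eq_mul]
    refine Finset.sum_congr rfl fun ψ _ => ?_
    rw [Char.classInner_smul_left, Nat.cast_mul]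
    split_ifs with h
    · rw [h, Char.classInner_irr_self γ.2]; push_cast; ring
    · rw [Char.classInner_irr_of_ne (hφ ψ) γ.2 h]; push_cast; ring
  rw [heq]
  exact Char.IsCharacter.sum _ fun ψ _ =>
    Char.IsCharacter.natCast_smul (Char.IsIrrCharacter.isCharacter (hη ψ)) _

theorem exists_int_coef (D : CopData G S) (hCG : C ≤ G) (hCS : ∀ c ∈ C, ∀ x ∈ S, Commute c x)
    {χ : IrrCharacter G} {χh : IrrCharacter Γ} (h : Canon S χ χh) (γ : IrrCharacter C) (x : S) :
    ∃ z : ℤ, coef S C χh.1 γ.1 x = (z : ℂ) := by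
  have hchar := isCharacter_coef hCS χh γ
  obtain ⟨q, hq⟩ := CharInt.exists_rat_of_forall_pow hchar x fun j hj => by
    show classInner (res C χh.1 ((x ^ j : S) : Γ)) γ.1 = classInner (res C χh.1 (x : Γ)) γ.1
    congr 1
    funext c
    show χh.1 ((c : Γ) * ((x ^ j : S) : Γ)) = χh.1 ((c : Γ) * x)
    rw [SubgroupClass.coe_pow]
    exact canon_apply_pow D h x.2 (by rwa [Subgroup.orderOf_coe]) (hCG c.2) (hCS c c.2 x x.2)
  have hint : IsIntegral ℤ q := by
    have h1 := CharInt.isIntegral_char hchar x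
    rw [hq, ← eq_ratCast (algebraMap ℚ ℂ)] at h1
    exact (isIntegral_algebraMap_iff (algebraMap ℚ ℂ).injective).1 h1
  obtain ⟨z, hz⟩ := IsIntegrallyClosed.isIntegral_iff.1 hint
  exact ⟨z, by rw [hq, ← hz]; simp⟩

/-- The main step: on `C y` the canonical extension is a signed irreducible character. -/
theorem exists_unique_coef (D : CopData G S) {y : S} (hC : ∀ c, c ∈ C ↔ c ∈ G ∧ Commute c (y : Γ))
    (hCS : ∀ c ∈ C, ∀ x ∈ S, Commute c x) {χ : IrrCharacter G} {χh : IrrCharacter Γ}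
    (h : Canon S χ χh) :
    ∃ (β : IrrCharacter C) (ε : ℤ), (ε = 1 ∨ ε = -1) ∧ coef S C χh.1 β.1 y = (ε : ℂ) ∧
      (∀ γ, γ ≠ β → coef S C χh.1 γ.1 y = 0) ∧
      ∀ c : C, χh.1 ((c : Γ) * y) = (ε : ℂ) * β.1 c := by
  classical
  have hCG : C ≤ G := fun c hc => ((hC c).1 hc).1
  choose z hz using fun γ : IrrCharacter C => exists_int_coef D hCG hCS h γ y
  have hcl : IsClassFunction C (res C χh.1 (y : Γ)) :=
    isClassFunction_res (fun c hc => hCS c hc y y.2)
      (Char.IsCharacter.isClassFunction (Char.irr_isCharacter χh))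
  have hsum : ∑ γ : IrrCharacter C, z γ * z γ = 1 := by
    have h1 := Char.classInner_eq_sum (f' := res C χh.1 (y : Γ)) hcl
    rw [classInner_res D y.2 hC h h, if_pos rfl] at h1
    have h2 : ∀ γ : IrrCharacter C, classInner (res C χh.1 (y : Γ)) γ.1 *
        classInner γ.1 (res C χh.1 (y : Γ)) = ((z γ * z γ : ℤ) : ℂ) := fun γ => by
      rw [← Char.conj_classInner (res C χh.1 (y : Γ)) γ.1,
        show classInner (res C χh.1 (y : Γ)) γ.1 = (z γ : ℂ) from hz γ]
      simp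
    simp only [h2] at h1
    exact_mod_cast h1.symm
  obtain ⟨β, hβ⟩ : ∃ β, z β ≠ 0 := by
    by_contra hall
    push Not at hall
    simp [hall] at hsum
  have hβ1 : z β * z β = 1 ∧ ∀ γ, γ ≠ β → z γ = 0 := by
    rw [← Finset.add_sum_erase _ _ (Finset.mem_univ β)] at hsum
    have hpos : 0 ≤ ∑ γ ∈ Finset.univ.erase β, z γ * z γ :=
      Finset.sum_nonneg fun γ _ => mul_self_nonneg _
    have h1 : 0 < z β * z β := mul_self_pos.2 hβ
    refine ⟨by omega, fun γ hγ => ?_⟩
    have h2 := (Finset.sum_eq_zero_iff_of_nonneg fun γ _ => mul_self_nonneg (z γ)).1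
      (show ∑ γ ∈ Finset.univ.erase β, z γ * z γ = 0 by omega) γ
      (Finset.mem_erase.2 ⟨hγ, Finset.mem_univ γ⟩)
    exact mul_self_eq_zero.1 h2
  refine ⟨β, z β, Int.isUnit_iff.1 (IsUnit.of_mul_eq_one _ hβ1.1), hz β, fun γ hγ => ?_, fun c => ?_⟩
  · rw [hz, hβ1.2 γ hγ, Int.cast_zero]
  · have h3 := congrFun (Char.eq_sum_classInner_smul hcl) c
    simp only [Finset.sum_apply, Pi.smul_apply, smul_eq_mul] at h3
    show res C χh.1 (y : Γ) c = _
    rw [h3, Finset.sum_eq_single β]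
    · rw [show classInner (res C χh.1 (y : Γ)) β.1 = (z β : ℂ) from hz β]
    · intro γ _ hγ
      rw [show classInner (res C χh.1 (y : Γ)) γ.1 = (z γ : ℂ) from hz γ, hβ1.2 γ hγ]
      simp
    · exact fun hh => absurd (Finset.mem_univ β) hh

theorem coef_one (hCG : C ≤ G) {χ : IrrCharacter G} {χh : IrrCharacter Γ}
    (h : ∀ g : G, χh.1 g = χ.1 g) (γ : C → ℂ) :
    coef S C χh.1 γ 1 = classInner (fun c : C => χ.1 ⟨c, hCG c.2⟩) γ := by
  show classInner (res C χh.1 ((1 : S) : Γ)) γ = _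
  congr 1
  funext c
  show χh.1 ((c : Γ) * ((1 : S) : Γ)) = _
  rw [Subgroup.coe_one, mul_one, ← h ⟨c, hCG c.2⟩]

/-- Invariant classes of `G` match the classes of `C`. -/
theorem card_inv_irr (D : CopData G S) {y : Γ} (hy : Subgroup.zpowers y = S)
    (hnorm : ∀ s ∈ S, ∀ g ∈ G, s * g * s⁻¹ ∈ G) (hC : ∀ c, c ∈ C ↔ c ∈ G ∧ Commute c y) :
    Nat.card {χ : IrrCharacter G // Inv S χ.1} = Nat.card (IrrCharacter C) := by
  classical
  have hCG : C ≤ G := fun c hc => ((hC c).1 hc).1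
  have hyS : y ∈ S := hy ▸ Subgroup.mem_zpowers y
  have hsolv : Group.IsSolvable S := by
    refine Group.isSolvable_of_comm fun a b => ?_
    obtain ⟨i, hi⟩ := Subgroup.mem_zpowers_iff.1 (hy.symm ▸ a.2 : (a : Γ) ∈ Subgroup.zpowers y)
    obtain ⟨j, hj⟩ := Subgroup.mem_zpowers_iff.1 (hy.symm ▸ b.2 : (b : Γ) ∈ Subgroup.zpowers y)
    exact Subtype.ext (by push_cast; rw [← hi, ← hj, ← zpow_add, ← zpow_add, add_comm])
  rw [Nat.card_congr (Equiv.subtypeEquivRight (p := fun χ : IrrCharacter G => Inv S χ.1)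
      (q := fun χ : IrrCharacter G => Glauberman.IsFix (Glauberman.conjOn hnorm) χ.1)
      fun χ => (Glauberman.isFix_conjOn_iff hnorm χ.1).symm),
    Glauberman.card_fix_irr_eq_card_fix_classes hsolv _ D.cop, Char.card_irr (G := C)]
  set ι : C →* G := Subgroup.inclusion hCG
  have hfix : ∀ (c : C) (t : S), Glauberman.conjOn hnorm t (ι c) = ι c := by
    intro c t
    obtain ⟨i, hi⟩ := Subgroup.mem_zpowers_iff.1 (hy.symm ▸ t.2 : (t : Γ) ∈ Subgroup.zpowers y)
    apply Subtype.ext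
    rw [Glauberman.coe_conjOn, ← hi, Subgroup.coe_inclusion, mul_inv_eq_iff_eq_mul]
    exact (((hC c).1 c.2).2.zpow_right i).symm.eq
  symm
  let f : ConjClasses C → {K : ConjClasses G //
      ∀ t, ConjClasses.map (Glauberman.conjOn hnorm t).toMonoidHom K = K} := fun K =>
    ⟨ConjClasses.map ι K, fun t => by
      obtain ⟨c, rfl⟩ := ConjClasses.exists_rep K
      exact congrArg ConjClasses.mk (hfix c t)⟩
  refine Nat.card_congr (Equiv.ofBijective f ⟨?_, ?_⟩)
  · intro K K' he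
    obtain ⟨c, rfl⟩ := ConjClasses.exists_rep K
    obtain ⟨c', rfl⟩ := ConjClasses.exists_rep K'
    have he' : IsConj (ι c) (ι c') :=
      ConjClasses.mk_eq_mk_iff_isConj.1 (congrArg Subtype.val he)
    obtain ⟨g, hg⟩ := isConj_iff.1 he'
    have hg' : (g : Γ) * c * (g : Γ)⁻¹ = c' := congrArg Subtype.val hg
    -- the centralizer of `c` in `G`
    let D' : Subgroup Γ := G ⊓ Subgroup.centralizer {(c : Γ)}
    have hcy : Commute (c : Γ) y := ((hC c).1 c.2).2
    have hc'y : Commute (c' : Γ) y := ((hC c').1 c'.2).2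
    haveI : Fintype D' := Fintype.ofFinite _
    haveI : Fintype (D' ⊓ Subgroup.centralizer {y} : Subgroup Γ) := Fintype.ofFinite _
    have hmem : ∀ d, d ∈ D' ↔ d ∈ G ∧ Commute d (c : Γ) := fun d => by
      rw [Subgroup.mem_inf, Subgroup.mem_centralizer_singleton_iff]
      exact and_congr_right fun _ => Iff.rfl
    have hz : (g : Γ)⁻¹ * y * g * y⁻¹ ∈ D' := by
      refine (hmem _).2 ⟨?_, ?_⟩
      · rw [mul_assoc, mul_assoc, ← mul_assoc y]
        exact G.mul_mem (G.inv_mem g.2) (hnorm y hyS g g.2)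
      · show (g : Γ)⁻¹ * y * g * y⁻¹ * c = c * ((g : Γ)⁻¹ * y * g * y⁻¹)
        calc _ = (g : Γ)⁻¹ * y * g * (y⁻¹ * c) := by group
          _ = (g : Γ)⁻¹ * y * g * (c * y⁻¹) := by rw [hcy.inv_right.eq]
          _ = (g : Γ)⁻¹ * (y * ((g : Γ) * c * (g : Γ)⁻¹)) * g * y⁻¹ := by group
          _ = (g : Γ)⁻¹ * (c' * y) * g * y⁻¹ := by rw [hg', hc'y.eq]
          _ = _ := by rw [← hg']; group
    have hD'y : ∀ d ∈ D', y * d * y⁻¹ ∈ D' := by
      intro d hd
      obtain ⟨h1, h2⟩ := (hmem d).1 hd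
      refine (hmem _).2 ⟨hnorm y hyS d h1, ?_⟩
      exact ((hcy.symm.mul_left h2).mul_left hcy.symm.inv_left)
    have hcoD : (Nat.card D').Coprime (orderOf y) :=
      (coprime_orderOf D hyS).coprime_dvd_left (Subgroup.card_dvd_of_le inf_le_left)
    obtain ⟨⟨d, e⟩, hde⟩ := exists_conj_eq (CD := D' ⊓ Subgroup.centralizer {y}) hD'y hcoD
      (fun z => by
        rw [Subgroup.mem_inf, Subgroup.mem_centralizer_singleton_iff]
        exact and_congr_right fun _ => Iff.rfl) ⟨_, hz⟩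
    have hde' : (g : Γ)⁻¹ * y * g = d * ((e : Γ) * y) * (d : Γ)⁻¹ := by
      have := congrArg (fun z : D' => (z : Γ) * y) hde
      simp only [coe_twist_mul] at this
      rw [this]
      group
    have hey : Commute (e : Γ) y := Subgroup.mem_centralizer_singleton_iff.1 e.2.2
    have hcm : ((g : Γ) * d) * ((e : Γ) * y) * ((g : Γ) * d)⁻¹ = 1 * y := by
      calc _ = (g : Γ) * ((d : Γ) * ((e : Γ) * y) * (d : Γ)⁻¹) * (g : Γ)⁻¹ := by group
        _ = _ := by rw [← hde']; group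
    have hgd := (commute_of_conj_eq (coprime_orderOf D hyS) ((hmem _).1 e.2.1).1 G.one_mem hey
      (Commute.one_left y) hcm).1
    refine ConjClasses.mk_eq_mk_iff_isConj.2 (isConj_iff.2
      ⟨⟨(g : Γ) * d, (hC _).2 ⟨G.mul_mem g.2 ((hmem _).1 d.2).1, hgd⟩⟩, Subtype.ext ?_⟩)
    push_cast
    calc (g : Γ) * d * c * ((g : Γ) * d)⁻¹ = (g : Γ) * ((d : Γ) * c) * (d : Γ)⁻¹ * (g : Γ)⁻¹ := by
          group
      _ = _ := by rw [((hmem _).1 d.2).2.eq, ← hg']; group
  · rintro ⟨K, hK⟩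
    obtain ⟨a, rfl⟩ := ConjClasses.exists_rep K
    obtain ⟨h, hh⟩ := isConj_iff.1 (ConjClasses.mk_eq_mk_iff_isConj.1 (hK ⟨y, hyS⟩).symm)
    have hh' : (h : Γ) * a * (h : Γ)⁻¹ = y * a * y⁻¹ := congrArg Subtype.val hh
    obtain ⟨⟨g, c⟩, hgc⟩ := exists_conj_eq (D := G) (CD := C) (s := y)
      (fun d hd => hnorm y hyS d hd) (coprime_orderOf D hyS) hC (h⁻¹)
    have hgc' : (h : Γ)⁻¹ * y = g * ((c : Γ) * y) * (g : Γ)⁻¹ := by
      have := congrArg (fun z : G => (z : Γ) * y) hgc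
      simp only [coe_twist_mul, InvMemClass.coe_inv] at this
      exact this.symm
    have hb : Commute ((g : Γ)⁻¹ * a * g) ((c : Γ) * y) := by
      show _ = _
      calc ((g : Γ)⁻¹ * a * g) * ((c : Γ) * y)
          = (g : Γ)⁻¹ * (a * ((g : Γ) * ((c : Γ) * y) * (g : Γ)⁻¹)) * g := by group
        _ = (g : Γ)⁻¹ * ((h : Γ)⁻¹ * ((h : Γ) * a * (h : Γ)⁻¹) * y) * g := by rw [← hgc']; group
        _ = (g : Γ)⁻¹ * ((h : Γ)⁻¹ * y * a) * g := by rw [hh']; group
        _ = _ := by rw [hgc']; group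
    obtain ⟨n, hn⟩ := mul_pow_eq_self (D := G) (coprime_orderOf D hyS)
    have hby := hb.pow_right n
    rw [hn c (hCG c.2) ((hC c).1 c.2).2] at hby
    refine ⟨ConjClasses.mk ⟨_, (hC _).2 ⟨G.mul_mem (G.mul_mem (G.inv_mem g.2) a.2) g.2, hby⟩⟩,
      Subtype.ext ?_⟩
    show ConjClasses.map ι (ConjClasses.mk _) = ConjClasses.mk a
    exact ConjClasses.mk_eq_mk_iff_isConj.2 (isConj_iff.2 ⟨g, Subtype.ext (by simp [ι, mul_assoc])⟩)

end Cfsg.Agent.GlauCyclic
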