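import Cfsg.Agent.Lib.Clifford.CoprimeExtension
import Cfsg.Agent.Lib.Char.CliffordCorrespondence
import Cfsg.Agent.Lib.Char.Descend
import Cfsg.Agent.Lib.Glauberman.Operators
import Cfsg.Agent.Lib.Coprime.Sylow

/-!
# Counting characters of degree prime to the order of a coprime complement

For `K ⊴ G` with `|K|` prime to `[G : K]`:
* `card_coprime_degree`: the characters of `G` of degree prime to `[G : K]` correspond to pairs
  (invariant character of `K`, linear character of `G ⧸ K`);
* `card_invariant_classes`: the `H`-invariant classes of `K` correspond to the classes of `C_K(H)`;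
* `card_coprime_degree_eq`: the resulting count, for a solvable complement `H`.
-/

namespace Cfsg.Agent.Glauberman

open Cfsg

section Characters

variable {G : Type*} [Group G] [Fintype G] (K : Subgroup G) [K.Normal]

theorem card_coprime_degree (hco : Nat.Coprime K.index (Nat.card K)) :
    Nat.card {χ : IrrCharacter G // (charDegree χ.1).Coprime K.index} =
      Nat.card {θ : IrrCharacter K // ∀ g, Char.conjFun K θ.1 g = θ.1} *
        Nat.card (G ⧸ K →* ℂ) := by
  classical
  letI : Fintype K := Fintype.ofFinite K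
  letI : Fintype (G ⧸ K) := Fintype.ofFinite _
  rw [← Nat.card_prod]
  have hext : ∀ θ : {θ : IrrCharacter K // ∀ g, Char.conjFun K θ.1 g = θ.1},
      ∃ χ : IrrCharacter G, ∀ n : K, χ.1 n = θ.1.1 n := fun θ =>
    (Clifford.existsUnique_extension_of_coprime_card θ.1 θ.2 hco).exists.imp fun χ h => h.1
  choose ext hext using hext
  have hres : ∀ θ, IsIrrCharacter K (Char.resFun K (ext θ).1) := fun θ => by
    rw [show Char.resFun K (ext θ).1 = θ.1.1 from funext (hext θ)]
    exact θ.1.2
  let f : {θ : IrrCharacter K // ∀ g, Char.conjFun K θ.1 g = θ.1} × (G ⧸ K →* ℂ) →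
      IrrCharacter G := fun x =>
    ⟨Char.mulQuotient K (ext x.1).1 (Char.linIrr x.2).1,
      Char.isIrrCharacter_mulQuotient K (ext x.1) (hres x.1) (Char.linIrr x.2)⟩
  have hf1 : ∀ x, (f x).1 1 = x.1.1.1 1 := fun x => by
    show (ext x.1).1 1 * x.2 ((1 : G) : G ⧸ K) = _
    rw [QuotientGroup.mk_one, map_one, mul_one]
    exact hext x.1 1
  have hfK : ∀ x (n : K), (f x).1 n = x.1.1.1 n := fun x n => by
    show (ext x.1).1 n * x.2 ((n : G) : G ⧸ K) = _
    rw [(QuotientGroup.eq_one_iff (n : G)).2 n.2, map_one, mul_one, hext]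
  symm
  refine Nat.card_congr (Equiv.ofBijective (fun x => ⟨f x, ?_⟩) ⟨?_, ?_⟩)
  · have h : charDegree (f x).1 = charDegree x.1.1.1 := by unfold charDegree; rw [hf1]
    rw [h]
    exact (hco.coprime_dvd_right (Char.charDegree_dvd_card x.1.1)).symm
  · intro x y h
    have h0 : f x = f y := congrArg Subtype.val h
    have hθ : x.1 = y.1 := Subtype.ext (Subtype.ext (funext fun n => by
      rw [← hfK x n, ← hfK y n, h0]))
    obtain ⟨a, b⟩ := x
    obtain ⟨a', b'⟩ := y
    obtain rfl : a = a' := hθ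
    exact Prod.ext rfl (Char.linIrr_injective
      (Char.mulQuotient_injective K (ext a) (hres a) (congrArg Subtype.val h0)))
  · rintro ⟨χ, hχ⟩
    obtain ⟨θ, hθ⟩ := Char.exists_constituent K χ
    obtain ⟨e, he⟩ := Char.IsCharacter.exists_nat_classInner
      (Char.IsCharacter.restrict (Char.irr_isCharacter χ) K) (Char.irr_isCharacter θ)
    have h1 := Char.apply_one_eq_mul_card_orbit K χ θ hθ
    rw [show classInner (Char.resFun K χ.1) θ.1 = e from he, ← Char.charDegree_cast χ,
      ← Char.charDegree_cast θ] at h1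
    have h1' : charDegree χ.1 = e * ((Char.orbitFinset K θ).card * charDegree θ.1) := by
      exact_mod_cast h1
    have hcard : (Char.orbitFinset K θ).card = 1 := by
      refine Nat.eq_one_of_dvd_coprimes hχ ⟨e * charDegree θ.1, by rw [h1']; ring⟩ ?_
      rw [← Char.index_inertia K θ]
      exact Subgroup.index_dvd_of_le
        (Char.le_inertia K (Char.IsCharacter.isClassFunction (Char.irr_isCharacter θ)))
    have hinv : ∀ g, Char.conjFun K θ.1 g = θ.1 := fun g => by
      rw [← Char.mem_inertia K]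
      rw [Subgroup.index_eq_one.1 ((Char.index_inertia K θ).trans hcard)]
      trivial
    have hψ : classInner (Char.resFun K χ.1) (Char.resFun K (ext ⟨θ, hinv⟩).1) ≠ 0 := by
      rw [show Char.resFun K (ext ⟨θ, hinv⟩).1 = θ.1 from funext (hext ⟨θ, hinv⟩)]
      exact hθ
    obtain ⟨β, hβ⟩ := Char.exists_mulQuotient_eq K (ext ⟨θ, hinv⟩) (hres _) χ hψ
    have h2 : χ.1 1 = θ.1 1 * β.1 1 := by
      rw [← hβ, Char.mulQuotient_apply, QuotientGroup.mk_one]
      exact congrArg (· * β.1 1) (hext ⟨θ, hinv⟩ 1)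
    rw [← Char.charDegree_cast χ, ← Char.charDegree_cast θ, ← Char.charDegree_cast β] at h2
    have h2' : charDegree χ.1 = charDegree θ.1 * charDegree β.1 := by exact_mod_cast h2
    have hβ1 : β.1 1 = 1 := by
      rw [← Char.charDegree_cast β]
      exact_mod_cast Nat.eq_one_of_dvd_coprimes hχ ⟨charDegree θ.1, by rw [h2']; ring⟩
        (by simpa [Subgroup.index] using Char.charDegree_dvd_card β)
    obtain ⟨lam, hlam⟩ := Char.IsCharacter.exists_monoidHom (Char.irr_isCharacter β) hβ1
    refine ⟨(⟨θ, hinv⟩, lam), Subtype.ext (Subtype.ext ?_)⟩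
    show Char.mulQuotient K (ext ⟨θ, hinv⟩).1 (Char.linIrr lam).1 = χ.1
    rw [show (Char.linIrr lam).1 = β.1 from hlam, hβ]

end Characters

section Classes

variable {G : Type*} [Group G] [Finite G]

theorem card_invariant_classes (K H : Subgroup G) (hHK : H ≤ Subgroup.normalizer (K : Set G))
    (hcop : (Nat.card H).Coprime (Nat.card K)) (hsolv : Group.IsSolvable H) :
    Nat.card {Q : ConjClasses K //
      ∀ s ∈ H, ∀ g g' : K, (g' : G) = s * g * s⁻¹ → ConjClasses.mk g = Q → ConjClasses.mk g' = Q} =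
      Nat.card (ConjClasses (K ⊓ Subgroup.centralizer (H : Set G) : Subgroup G)) := by
  set C : Subgroup G := K ⊓ Subgroup.centralizer (H : Set G) with hC
  let ι : C →* K := Subgroup.inclusion inf_le_left
  have hfix : ∀ c : C, ∀ s ∈ H, ∀ g : K, (g : G) = s * (c : G) * s⁻¹ → g = ι c := by
    intro c s hs g hg
    apply Subtype.ext
    rw [hg, Subgroup.mem_centralizer_iff.1 (Subgroup.mem_inf.1 c.2).2 s hs, mul_inv_cancel_right]
    rfl
  symm
  refine Nat.card_congr (Equiv.ofBijective (fun Q => ⟨ConjClasses.map ι Q, ?_⟩) ⟨?_, ?_⟩)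
  · intro s hs g g' hg' hgQ
    obtain ⟨c, rfl⟩ := ConjClasses.exists_rep Q
    have hgQ' : ConjClasses.mk g = ConjClasses.mk (ι c) := hgQ
    obtain ⟨k, hk⟩ := isConj_iff.1 (ConjClasses.mk_eq_mk_iff_isConj.1 hgQ')
    have hk' : (k : G) * g * (k : G)⁻¹ = (c : G) := congrArg Subtype.val hk
    have hsk : s * (k : G) * s⁻¹ ∈ K := (Subgroup.mem_normalizer_iff.1 (hHK hs) _).1 k.2
    show ConjClasses.mk g' = ConjClasses.mk (ι c)
    rw [ConjClasses.mk_eq_mk_iff_isConj, isConj_iff]
    refine ⟨⟨_, hsk⟩, hfix c s hs _ ?_⟩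
    show s * (k : G) * s⁻¹ * g' * (s * (k : G) * s⁻¹)⁻¹ = _
    rw [hg', ← hk']
    group
  · intro Q Q' h
    obtain ⟨c, rfl⟩ := ConjClasses.exists_rep Q
    obtain ⟨c', rfl⟩ := ConjClasses.exists_rep Q'
    have h' : ConjClasses.mk (ι c) = ConjClasses.mk (ι c') := congrArg Subtype.val h
    obtain ⟨k, hk⟩ := isConj_iff.1 (ConjClasses.mk_eq_mk_iff_isConj.1 h')
    have hk' : (k : G) * c * (k : G)⁻¹ = (c' : G) := congrArg Subtype.val hk
    set N : Subgroup G := K ⊓ Subgroup.centralizer {(c : G)}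
    have hHc : H ≤ Subgroup.centralizer {(c : G)} := fun s hs =>
      Subgroup.mem_centralizer_singleton_iff.2
        (Subgroup.mem_centralizer_iff.1 (Subgroup.mem_inf.1 c.2).2 s hs)
    have hHN : H ≤ Subgroup.normalizer (N : Set G) :=
      Coprime.le_normalizer_inf_of_le hHK (hHc.trans Subgroup.le_normalizer)
    have hcoc : ∀ s ∈ H, (k : G)⁻¹ * s * k * s⁻¹ ∈ N := by
      intro s hs
      have h1 : s * (k : G) * s⁻¹ ∈ K := (Subgroup.mem_normalizer_iff.1 (hHK hs) _).1 k.2
      refine Subgroup.mem_inf.2 ⟨?_, Subgroup.mem_centralizer_singleton_iff.2 ?_⟩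
      · have := mul_mem (inv_mem k.2) h1
        simpa [mul_assoc] using this
      · have ec : s * (c : G) * s⁻¹ = c := by
          rw [Subgroup.mem_centralizer_iff.1 (Subgroup.mem_inf.1 c.2).2 s hs, mul_inv_cancel_right]
        have ec' : s * (c' : G) * s⁻¹ = c' := by
          rw [Subgroup.mem_centralizer_iff.1 (Subgroup.mem_inf.1 c'.2).2 s hs, mul_inv_cancel_right]
        have e2 : s * (k : G) * s⁻¹ * c * (s * (k : G) * s⁻¹)⁻¹ = c' := by
          calc _ = s * ((k : G) * (s⁻¹ * c * s) * (k : G)⁻¹) * s⁻¹ := by group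
            _ = _ := by
              rw [show s⁻¹ * (c : G) * s = c by
                rw [mul_assoc, ← Subgroup.mem_centralizer_iff.1 (Subgroup.mem_inf.1 c.2).2 s hs,
                  inv_mul_cancel_left], hk', ec']
        calc (k : G)⁻¹ * s * k * s⁻¹ * c
            = (k : G)⁻¹ * (s * (k : G) * s⁻¹ * c * (s * (k : G) * s⁻¹)⁻¹) * k *
                ((k : G)⁻¹ * s * k * s⁻¹) := by group
          _ = (k : G)⁻¹ * c' * k * ((k : G)⁻¹ * s * k * s⁻¹) := by rw [e2]
          _ = c * ((k : G)⁻¹ * s * k * s⁻¹) := by rw [← hk']; group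
    obtain ⟨n, hn, hkn⟩ := Coprime.exists_mul_mem_centralizer hHN
      (hcop.coprime_dvd_right (Subgroup.card_dvd_of_le inf_le_left)) (Or.inl hsolv) hcoc
    rw [ConjClasses.mk_eq_mk_iff_isConj, isConj_iff]
    refine ⟨⟨(k : G) * n, Subgroup.mem_inf.2 ⟨mul_mem k.2 (Subgroup.mem_inf.1 hn).1, hkn⟩⟩,
      Subtype.ext ?_⟩
    show (k : G) * n * c * ((k : G) * n)⁻¹ = c'
    have hnc : n * (c : G) = c * n :=
      Subgroup.mem_centralizer_singleton_iff.1 (Subgroup.mem_inf.1 hn).2
    rw [mul_assoc (k : G) n, hnc, ← hk']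
    group
  · rintro ⟨Q, hQ⟩
    obtain ⟨x, rfl⟩ := ConjClasses.exists_rep Q
    have hW : ∀ a ∈ H, ∃ k ∈ K, k⁻¹ * a ∈ Subgroup.centralizer {(x : G)} := by
      intro a ha
      have hax : a * (x : G) * a⁻¹ ∈ K := (Subgroup.mem_normalizer_iff.1 (hHK ha) _).1 x.2
      obtain ⟨k, hk⟩ := isConj_iff.1 (ConjClasses.mk_eq_mk_iff_isConj.1
        (hQ a ha x ⟨_, hax⟩ rfl rfl))
      have hk' : (k : G) * (a * (x : G) * a⁻¹) * (k : G)⁻¹ = x := congrArg Subtype.val hk
      refine ⟨(k : G)⁻¹, inv_mem k.2, Subgroup.mem_centralizer_singleton_iff.2 ?_⟩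
      rw [inv_inv]
      calc (k : G) * a * x = (k : G) * (a * (x : G) * a⁻¹) * (k : G)⁻¹ * (k * a) := by group
        _ = x * (k * a) := by rw [hk']
    obtain ⟨k, hk, hkH⟩ := Coprime.exists_conj_le_of_le_mul hHK hcop (Or.inl hsolv) hW
    have hy : k * (x : G) * k⁻¹ ∈ C := by
      refine Subgroup.mem_inf.2 ⟨mul_mem (mul_mem hk x.2) (inv_mem hk), ?_⟩
      rw [Subgroup.mem_centralizer_iff]
      intro s hs
      have h1 : k⁻¹ * s * k * x = x * (k⁻¹ * s * k) :=
        Subgroup.mem_centralizer_singleton_iff.1 (Coprime.mem_conj_smul_iff.1 (hkH hs))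
      calc s * (k * (x : G) * k⁻¹) = k * (k⁻¹ * s * k * x) * k⁻¹ := by group
        _ = k * x * k⁻¹ * s := by rw [h1]; group
    refine ⟨ConjClasses.mk ⟨_, hy⟩, Subtype.ext ?_⟩
    show ConjClasses.mk (ι ⟨_, hy⟩) = ConjClasses.mk x
    rw [ConjClasses.mk_eq_mk_iff_isConj, isConj_iff]
    refine ⟨⟨k⁻¹, inv_mem hk⟩, Subtype.ext ?_⟩
    show k⁻¹ * (k * (x : G) * k⁻¹) * k⁻¹⁻¹ = x
    group

theorem card_coprime_degree_eq (K H : Subgroup G) [K.Normal] (hKH : K ⊔ H = ⊤)
    (hcop : (Nat.card K).Coprime (Nat.card H)) (hsolv : Group.IsSolvable H) :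
    Nat.card {χ : IrrCharacter G // (charDegree χ.1).Coprime (Nat.card H)} =
      Nat.card (ConjClasses (K ⊓ Subgroup.centralizer (H : Set G) : Subgroup G)) *
        Nat.card (H →* ℂ) := by
  classical
  letI : Fintype G := Fintype.ofFinite G
  letI : Fintype K := Fintype.ofFinite K
  have hdis : Disjoint K H := disjoint_iff.2 (Coprime.disjoint_of_coprime_card hcop)
  have hHK : H ≤ Subgroup.normalizer (K : Set G) := by
    rw [Subgroup.normalizer_eq_top]; exact le_top
  have hsup : H ⊔ K = ⊤ := by rw [sup_comm]; exact hKH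
  have hcompl : Subgroup.IsComplement' K H := by
    refine Subgroup.isComplement'_of_card_mul_and_disjoint ?_ hdis
    have := Coprime.card_sup_of_le_normalizer hHK (disjoint_iff.1 hdis.symm)
    rw [hsup, Subgroup.card_top] at this
    rw [this, mul_comm]
  have hidx : K.index = Nat.card H := hcompl.symm.index_eq_card
  have hnorm : ∀ s ∈ H, ∀ g ∈ K, s * g * s⁻¹ ∈ K := fun s _ g hg => ‹K.Normal›.conj_mem g hg s
  have h1 := card_coprime_degree K (hidx ▸ hcop.symm)
  rw [hidx] at h1
  rw [h1]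
  congr 1
  · rw [← card_invariant_classes K H hHK hcop.symm hsolv]
    have h2 : ∀ θ : IrrCharacter K, (∀ g, Char.conjFun K θ.1 g = θ.1) ↔
        IsFix (conjOn hnorm) θ.1 := by
      intro θ
      rw [isFix_conjOn_iff]
      constructor
      · intro h s _ g g' he
        exact (Char.conjFun_eq_self_iff K θ.1 s).1 (h s) g g' he
      · intro h g
        have hg : g ∈ Char.inertia K θ.1 := by
          have hle : K ⊔ H ≤ Char.inertia K θ.1 :=
            sup_le (Char.le_inertia K (Char.IsCharacter.isClassFunction (Char.irr_isCharacter θ)))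
              fun s hs => (Char.mem_inertia K).2
                ((Char.conjFun_eq_self_iff K θ.1 s).2 (h s hs))
          rw [hKH] at hle
          exact hle trivial
        exact (Char.mem_inertia K).1 hg
    refine ((Nat.card_congr (Equiv.subtypeEquivRight h2)).trans
      (card_fix_irr_eq_card_fix_classes hsolv (conjOn hnorm) hcop)).trans
      (Nat.card_congr (Equiv.subtypeEquivRight fun Q => ?_))
    constructor
    · intro h s hs g g' he hg
      subst hg
      have : g' = conjOn hnorm ⟨s, hs⟩ g := Subtype.ext he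
      rw [this]
      exact h ⟨s, hs⟩
    · intro h t
      obtain ⟨g, rfl⟩ := ConjClasses.exists_rep Q
      exact h t t.2 g _ rfl rfl
  · let e : (G ⧸ K) ≃* H := hcompl.symm.QuotientMulEquiv
    exact Nat.card_congr
      { toFun := fun f => f.comp e.symm.toMonoidHom
        invFun := fun f => f.comp e.toMonoidHom
        left_inv := fun f => by ext; simp
        right_inv := fun f => by ext; simp }

end Classes

end Cfsg.Agent.Glauberman
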