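import Cfsg.Agent.Lib.Glauberman.Congr
import Cfsg.Agent.Lib.Char.ClassSum
import Cfsg.Agent.Lib.CharInt.Basic
import Cfsg.Agent.Lib.Char.Induction

/-!
# The Glauberman correspondence for a `p`-group acting on a group of order prime to `p`

`φ : T →* MulAut G` with `T` a `p`-group and `p ∤ #G`, and `ι : C →* G` an injective map onto the
fixed points.  All arguments are congruences modulo `p` of algebraic integers:

* restriction to the fixed points preserves inner products of fixed characters modulo `p`;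
* fixed characters are convolution-orthogonal, so their supports modulo `p` in `Irr C` are disjoint;
* extension of class functions shows that every `β ∈ Irr C` is met, and supports are singletons.
-/

namespace Cfsg.Agent.Glauberman

open Cfsg
open scoped ComplexConjugate

set_option linter.style.haveILetI false
set_option linter.unusedSectionVars false

section Twist

variable {G : Type*} [Group G]

/-- The character `χ ∘ e`. -/
noncomputable def twistChar (e : MulAut G) (χ : IrrCharacter G) : IrrCharacter G :=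
  ⟨fun g => χ.1 (e g), Char.IsIrrCharacter.comp_surjective χ.2 e.toMonoidHom e.surjective⟩

@[simp] theorem twistChar_apply (e : MulAut G) (χ : IrrCharacter G) (g : G) :
    (twistChar e χ).1 g = χ.1 (e g) := rfl

theorem twistChar_symm (e : MulAut G) (χ : IrrCharacter G) :
    twistChar e⁻¹ (twistChar e χ) = χ :=
  Subtype.ext <| funext fun g => by simp

variable {T : Type*} [Group T]

/-- A group of automorphisms acts on characters. -/
@[reducible] noncomputable def charAction (φ : T →* MulAut G) : MulAction T (IrrCharacter G) where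
  smul t χ := twistChar (φ t⁻¹) χ
  one_smul χ := Subtype.ext <| funext fun g => by
    show χ.1 (φ (1 : T)⁻¹ g) = χ.1 g
    simp
  mul_smul s t χ := Subtype.ext <| funext fun g => by
    show χ.1 (φ (s * t)⁻¹ g) = χ.1 (φ t⁻¹ (φ s⁻¹ g))
    rw [mul_inv_rev, map_mul]
    rfl

/-- The character is fixed by every automorphism in the image of `φ`. -/
def IsFix (φ : T →* MulAut G) (f : G → ℂ) : Prop := ∀ (t : T) (g : G), f (φ t g) = f g

theorem mem_fixedPoints_charAction {φ : T →* MulAut G} {χ : IrrCharacter G} :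
    (letI := charAction φ; χ ∈ MulAction.fixedPoints T (IrrCharacter G)) ↔ IsFix φ χ.1 := by
  letI := charAction φ
  constructor
  · intro h t g
    have h1 : twistChar (φ t⁻¹⁻¹) χ = χ := h t⁻¹
    rw [inv_inv] at h1
    exact congrFun (congrArg Subtype.val h1) g
  · intro h t
    exact Subtype.ext (funext fun g => h t⁻¹ g)

end Twist

/-- `ι` embeds `C` onto the fixed points of `φ`. -/
structure IsFixedEmbedding {T G C : Type*} [Group T] [Group G] [Group C] (φ : T →* MulAut G)
    (ι : C →* G) : Prop where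
  injective : Function.Injective ι
  mem_range : ∀ g : G, (∃ c, ι c = g) ↔ ∀ t : T, φ t g = g

section Main

variable {p : ℕ} [hp : Fact p.Prime] {T G C : Type*} [Group T] [Finite T] [Group G] [Fintype G]
  [Group C] [Fintype C] {φ : T →* MulAut G} {ι : C →* G}

theorem IsFixedEmbedding.map_fixed (hι : IsFixedEmbedding φ ι) (c : C) (t : T) :
    φ t (ι c) = ι c := (hι.mem_range _).1 ⟨c, rfl⟩ t

theorem IsFixedEmbedding.not_dvd_card (hι : IsFixedEmbedding φ ι) (hG : ¬ p ∣ Nat.card G) :
    ¬ p ∣ Nat.card C := fun h => hG (h.trans (Subgroup.card_dvd_of_injective ι hι.injective))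

/-- Sums of invariant functions reduce modulo `p` to sums over the fixed points. -/
theorem pCong_sum_range (hT : IsPGroup p T) (hι : IsFixedEmbedding φ ι) (f : G → ℂ)
    (hf : ∀ (t : T) (g : G), f (φ t g) = f g) (hint : ∀ g, IsIntegral ℤ (f g)) :
    PCong p (∑ g, f g) (∑ c, f (ι c)) := by
  classical
  letI : MulAction T G := MulAction.compHom G φ
  have h := pCong_sum_fixedPoints (p := p) hT f hf hint
  refine h.trans (PCong.of_eq ?_)
  symm
  refine Finset.sum_bij (fun c _ => ι c) (fun c _ => ?_) (fun a _ b _ hab => hι.injective hab)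
    (fun g hg => ?_) (fun c _ => rfl)
  · exact Finset.mem_filter.2 ⟨Finset.mem_univ _, fun t => hι.map_fixed c t⟩
  · obtain ⟨c, hc⟩ := (hι.mem_range g).2 (Finset.mem_filter.1 hg).2
    exact ⟨c, Finset.mem_univ _, hc⟩

theorem pCong_card (hT : IsPGroup p T) (hι : IsFixedEmbedding φ ι) :
    PCong p (Nat.card G : ℂ) (Nat.card C : ℂ) := by
  have h := pCong_sum_range (p := p) hT hι (fun _ => (1 : ℂ)) (fun _ _ => rfl)
    (fun _ => isIntegral_one)
  simpa [Nat.card_eq_fintype_card] using h

/-- Fixed elements conjugate in `G` are conjugate in `C`. -/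
theorem exists_conj_of_isConj (hT : IsPGroup p T) (hι : IsFixedEmbedding φ ι)
    (hG : ¬ p ∣ Nat.card G) {c c' : C} (h : IsConj (ι c) (ι c')) : IsConj c c' := by
  classical
  letI : MulAction T G := MulAction.compHom G φ
  obtain ⟨g, hg⟩ := isConj_iff.1 h
  let X : SubMulAction T G :=
    { carrier := {x | x * ι c * x⁻¹ = ι c'}
      smul_mem' := fun t x (hx : x * ι c * x⁻¹ = ι c') => by
        show φ t x * ι c * (φ t x)⁻¹ = ι c'
        have := congrArg (φ t) hx
        simpa [map_mul, map_inv, hι.map_fixed] using this }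
  have hX : ¬ p ∣ Nat.card X := by
    intro hd
    refine hG (hd.trans ?_)
    have e : X ≃ Subgroup.centralizer ({ι c} : Set G) :=
      { toFun := fun x => ⟨g⁻¹ * x.1, by
          have hx : x.1 * ι c * x.1⁻¹ = ι c' := x.2
          rw [Subgroup.mem_centralizer_singleton_iff, ← mul_inv_eq_iff_eq_mul]
          calc g⁻¹ * x.1 * ι c * (g⁻¹ * x.1)⁻¹ = g⁻¹ * (x.1 * ι c * x.1⁻¹) * g := by group
            _ = g⁻¹ * (g * ι c * g⁻¹) * g := by rw [hx, hg]
            _ = ι c := by group⟩
        invFun := fun z => ⟨g * z.1, by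
          have hz := Subgroup.mem_centralizer_singleton_iff.1 z.2
          show g * z.1 * ι c * (g * z.1)⁻¹ = ι c'
          rw [← hg]
          calc g * z.1 * ι c * (g * z.1)⁻¹ = g * (z.1 * ι c) * z.1⁻¹ * g⁻¹ := by group
            _ = g * (ι c * z.1) * z.1⁻¹ * g⁻¹ := by rw [hz]
            _ = g * ι c * g⁻¹ := by group⟩
        left_inv := fun x => Subtype.ext (by simp)
        right_inv := fun z => Subtype.ext (by simp) }
    rw [Nat.card_congr e]
    exact Subgroup.card_subgroup_dvd_card _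
  obtain ⟨⟨x, hx⟩, hfix⟩ := hT.nonempty_fixed_point_of_prime_not_dvd_card X hX
  obtain ⟨d, rfl⟩ := (hι.mem_range x).2 fun t => congrArg Subtype.val (hfix t)
  exact isConj_iff.2 ⟨d, hι.injective (by rw [map_mul, map_mul, map_inv]; exact hx)⟩

/-- The multiplicity of `β` in the restriction of `χ`. -/
noncomputable def mult (ι : C →* G) (χ : IrrCharacter G) (β : IrrCharacter C) : ℕ :=
  Classical.choose (Char.IsCharacter.exists_nat_classInner
    (Char.IsCharacter.comp (Char.irr_isCharacter χ) ι) (Char.irr_isCharacter β))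

theorem mult_eq (χ : IrrCharacter G) (β : IrrCharacter C) :
    classInner (fun c => χ.1 (ι c)) β.1 = (mult ι χ β : ℂ) :=
  Classical.choose_spec (Char.IsCharacter.exists_nat_classInner
    (Char.IsCharacter.comp (Char.irr_isCharacter χ) ι) (Char.irr_isCharacter β))

theorem sum_mult_smul (χ : IrrCharacter G) (c : C) :
    χ.1 (ι c) = ∑ β : IrrCharacter C, (mult ι χ β : ℂ) * β.1 c := by
  have hcf : IsClassFunction C (fun c => χ.1 (ι c)) :=
    Char.IsCharacter.isClassFunction (Char.IsCharacter.comp (Char.irr_isCharacter χ) ι)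
  have h := congrFun (Char.eq_sum_classInner_smul hcf) c
  simp only [Finset.sum_apply, Pi.smul_apply, smul_eq_mul, mult_eq] at h
  exact h

theorem isIntegral_irr (χ : IrrCharacter G) (g : G) : IsIntegral ℤ (χ.1 g) :=
  CharInt.isIntegral_char (Char.irr_isCharacter χ) g

theorem isIntegral_conj_irr (χ : IrrCharacter G) (g : G) : IsIntegral ℤ (conj (χ.1 g)) := by
  rw [← CharInt.char_inv (Char.irr_isCharacter χ) g]; exact isIntegral_irr χ _

theorem isIntegral_natCast' (n : ℕ) : IsIntegral ℤ (n : ℂ) := by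
  simpa using (isIntegral_intCast (R := ℤ) (B := ℂ) (n : ℤ))

theorem sum_mul_conj_irr (χ ψ : IrrCharacter G) :
    ∑ g, χ.1 g * conj (ψ.1 g) = if χ = ψ then (Nat.card G : ℂ) else 0 := by
  have h := Char.classInner_irr χ ψ
  simp only [classInner] at h
  rw [inv_mul_eq_iff_eq_mul₀ Char.card_ne_zero] at h
  rw [h]; split_ifs <;> simp

/-- Inner products of restrictions of fixed characters, modulo `p`. -/
theorem sum_mult_mul (hT : IsPGroup p T) (hι : IsFixedEmbedding φ ι) (hG : ¬ p ∣ Nat.card G)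
    {χ ψ : IrrCharacter G} (hχ : IsFix φ χ.1) (hψ : IsFix φ ψ.1) :
    (p : ℤ) ∣ ((∑ β : IrrCharacter C, mult ι χ β * mult ι ψ β : ℕ) : ℤ) -
      (if χ = ψ then 1 else 0) := by
  have h1 := pCong_sum_range (p := p) hT hι (fun g => χ.1 g * conj (ψ.1 g))
    (fun t g => by simp only [hχ t g, hψ t g])
    (fun g => (isIntegral_irr χ g).mul (isIntegral_conj_irr ψ g))
  rw [sum_mul_conj_irr] at h1
  have h2 : (∑ c : C, χ.1 (ι c) * conj (ψ.1 (ι c))) =
      (Nat.card C : ℂ) * ((∑ β : IrrCharacter C, mult ι χ β * mult ι ψ β : ℕ) : ℂ) := by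
    simp only [sum_mult_smul, map_sum, map_mul, Complex.conj_natCast, Finset.sum_mul, Finset.mul_sum]
    rw [Finset.sum_comm]
    push_cast
    rw [Finset.mul_sum]
    refine Finset.sum_congr rfl fun β _ => ?_
    rw [Finset.sum_comm, Finset.sum_eq_single β]
    · simp_rw [mul_mul_mul_comm, ← Finset.mul_sum, sum_mul_conj_irr]
      simp only [if_true]
      ring
    · intro γ _ hne
      simp_rw [mul_mul_mul_comm, ← Finset.mul_sum, sum_mul_conj_irr]
      rw [if_neg hne]
      ring
    · intro h; exact absurd (Finset.mem_univ β) h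
  rw [h2] at h1
  have h3 := pCong_card (p := p) hT hι
  have key : PCong p ((Nat.card C : ℂ) * ((∑ β : IrrCharacter C, mult ι χ β * mult ι ψ β : ℕ) : ℂ))
      ((Nat.card C : ℂ) * (if χ = ψ then 1 else 0)) := by
    refine h1.symm.trans ?_
    split_ifs
    · rw [mul_one]; exact h3
    · rw [mul_zero]; exact PCong.refl 0
  have hd : (p : ℤ) ∣ (Nat.card C : ℤ) * (((∑ β : IrrCharacter C, mult ι χ β * mult ι ψ β : ℕ) : ℤ) -
      (if χ = ψ then 1 else 0)) := by
    rw [mul_sub]
    refine dvd_sub_of_pCong ?_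
    split_ifs at key ⊢ <;> simpa using key
  refine ((Nat.prime_iff_prime_int.1 hp.out).dvd_mul.1 hd).resolve_left fun hc => ?_
  exact hι.not_dvd_card hG (Int.natCast_dvd_natCast.1 hc)

/-- Fixed characters have disjoint supports modulo `p`. -/
theorem dvd_mult_mul_mult (hT : IsPGroup p T) (hι : IsFixedEmbedding φ ι)
    (hG : ¬ p ∣ Nat.card G) {χ ψ : IrrCharacter G} (hχ : IsFix φ χ.1) (hψ : IsFix φ ψ.1)
    (hne : χ ≠ ψ) (β : IrrCharacter C) : p ∣ mult ι χ β * mult ι ψ β := by
  have h0 : ∀ c : C, PCong p 0 (∑ d : C, conj (ψ.1 (ι d)) * χ.1 (ι d * ι c)) := by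
    intro c
    have h1 := pCong_sum_range (p := p) hT hι (fun g => conj (ψ.1 g) * χ.1 (g * ι c))
      (fun t g => by
        have h2 : φ t g * ι c = φ t (g * ι c) := by rw [map_mul, hι.map_fixed]
        simp only [hψ t g, h2, hχ t])
      (fun g => (isIntegral_conj_irr ψ g).mul (isIntegral_irr χ _))
    rwa [Char.sum_irr_conj_mul_of_ne χ.2 ψ.2 (fun h => hne (Subtype.ext h))] at h1
  have hβ := fun c => (h0 c).mul_right (isIntegral_conj_irr β c)
  have hsum := PCong.sum (p := p) Finset.univ fun c _ => hβ c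
  simp only [zero_mul, Finset.sum_const_zero] at hsum
  have key : β.1 1 * ∑ c : C, (∑ d : C, conj (ψ.1 (ι d)) * χ.1 (ι d * ι c)) * conj (β.1 c) =
      (((mult ι χ β * mult ι ψ β) * Nat.card C ^ 2 : ℕ) : ℂ) := by
    have e1 : ∀ c : C, (∑ d : C, conj (ψ.1 (ι d)) * χ.1 (ι d * ι c)) =
        ∑ γ : IrrCharacter C, (mult ι χ γ : ℂ) * (mult ι ψ γ : ℂ) *
          ((Nat.card C : ℂ) * γ.1 c / γ.1 1) := by
      intro c
      have e2 : ∀ d : C, conj (ψ.1 (ι d)) * χ.1 (ι d * ι c) =
          ∑ γ : IrrCharacter C, ∑ δ : IrrCharacter C,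
            (mult ι χ γ : ℂ) * (mult ι ψ δ : ℂ) * (conj (δ.1 d) * γ.1 (d * c)) := by
        intro d
        rw [← map_mul, sum_mult_smul, sum_mult_smul, map_sum, Finset.mul_sum]
        refine Finset.sum_congr rfl fun γ _ => ?_
        rw [Finset.sum_mul]
        refine Finset.sum_congr rfl fun δ _ => ?_
        rw [map_mul, Complex.conj_natCast]
        ring
      rw [Finset.sum_congr rfl fun d _ => e2 d, Finset.sum_comm]
      refine Finset.sum_congr rfl fun γ _ => ?_
      rw [Finset.sum_comm, Finset.sum_eq_single γ]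
      · rw [← Finset.mul_sum]
        congr 1
        rw [eq_div_iff (Char.IsIrrCharacter.apply_one_ne_zero γ.2), mul_comm]
        exact Char.sum_irr_mul_conj_conj γ.2 c
      · intro δ _ hd
        rw [← Finset.mul_sum, Char.sum_irr_conj_mul_of_ne γ.2 δ.2
          (fun h => hd (Subtype.ext h.symm)), mul_zero]
      · intro h; exact absurd (Finset.mem_univ γ) h
    simp only [e1, Finset.sum_mul]
    rw [Finset.sum_comm, Finset.sum_eq_single β]
    · have e3 : ∀ c : C, (mult ι χ β : ℂ) * (mult ι ψ β : ℂ) *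
          ((Nat.card C : ℂ) * β.1 c / β.1 1) * conj (β.1 c) =
          ((mult ι χ β : ℂ) * (mult ι ψ β : ℂ) * (Nat.card C : ℂ) / β.1 1) *
            (β.1 c * conj (β.1 c)) := fun c => by ring
      rw [Finset.sum_congr rfl fun c _ => e3 c, ← Finset.mul_sum, sum_mul_conj_irr, if_pos rfl]
      have := Char.IsIrrCharacter.apply_one_ne_zero β.2
      push_cast
      field_simp
    · intro γ _ hd
      have e3 : ∀ c : C, (mult ι χ γ : ℂ) * (mult ι ψ γ : ℂ) *
          ((Nat.card C : ℂ) * γ.1 c / γ.1 1) * conj (β.1 c) =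
          ((mult ι χ γ : ℂ) * (mult ι ψ γ : ℂ) * (Nat.card C : ℂ) / γ.1 1) *
            (γ.1 c * conj (β.1 c)) := fun c => by ring
      rw [Finset.sum_congr rfl fun c _ => e3 c, ← Finset.mul_sum, sum_mul_conj_irr, if_neg hd,
        mul_zero]
    · intro h; exact absurd (Finset.mem_univ β) h
  have h5 := hsum.symm.mul_left (isIntegral_irr β 1)
  rw [key, mul_zero] at h5
  have h6 : p ∣ mult ι χ β * mult ι ψ β * Nat.card C ^ 2 := by
    by_contra hnd
    exact not_pCong_zero_of_not_dvd hnd h5
  exact (hp.out.dvd_mul.1 h6).resolve_right fun h => hι.not_dvd_card hG (hp.out.dvd_of_dvd_pow h)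

/-- Orthogonality of two irreducibles of `C`, in the form of their extension to `G`. -/
theorem exists_coeff (hT : IsPGroup p T) (hι : IsFixedEmbedding φ ι) (hG : ¬ p ∣ Nat.card G)
    (β : IrrCharacter C) [DecidablePred fun χ : IrrCharacter G => IsFix φ χ.1] :
    ∃ a : IrrCharacter G → ℂ, (∀ χ, IsIntegral ℤ (a χ)) ∧ ∀ γ : IrrCharacter C,
      PCong p ((Nat.card C : ℂ) * ((Nat.card G : ℂ) * (if β = γ then 1 else 0)))
        ((Nat.card C : ℂ) * ∑ χ ∈ Finset.univ.filter (fun χ : IrrCharacter G => IsFix φ χ.1),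
          a χ * (mult ι χ γ : ℂ)) := by
  classical
  let F : G → ℂ := fun g => if h : ∃ c, IsConj g (ι c) then β.1 h.choose else 0
  have hFι : ∀ c, F (ι c) = β.1 c := by
    intro c
    have h : ∃ c', IsConj (ι c) (ι c') := ⟨c, IsConj.refl _⟩
    simp only [F, dif_pos h]
    exact (Char.IsClassFunction.apply_of_isConj
      (Char.IsCharacter.isClassFunction (Char.irr_isCharacter β))
      (exists_conj_of_isConj hT hι hG h.choose_spec)).symm
  have hFc : ∀ g h : G, IsConj g h → F g = F h := by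
    intro g h hgh
    by_cases hg : ∃ c, IsConj g (ι c)
    · obtain ⟨c, hc⟩ := hg
      have h1 : ∀ x : G, IsConj x (ι c) → F x = β.1 c := by
        intro x hx
        have he : ∃ c', IsConj x (ι c') := ⟨c, hx⟩
        simp only [F, dif_pos he]
        exact Char.IsClassFunction.apply_of_isConj
          (Char.IsCharacter.isClassFunction (Char.irr_isCharacter β))
          (exists_conj_of_isConj hT hι hG (he.choose_spec.symm.trans hx))
      rw [h1 g hc, h1 h (hgh.symm.trans hc)]
    · have hh : ¬ ∃ c, IsConj h (ι c) := fun ⟨c, hc⟩ => hg ⟨c, hgh.trans hc⟩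
      simp only [F, dif_neg hg, dif_neg hh]
  have hFcl : IsClassFunction G F := fun g h => (hFc _ _ (isConj_iff.2 ⟨h, rfl⟩)).symm
  have hFfix : ∀ t g, F (φ t g) = F g := by
    intro t g
    by_cases hg : ∃ c, IsConj g (ι c)
    · obtain ⟨c, hc⟩ := hg
      have h1 : IsConj (φ t g) (ι c) := by
        have := (φ t).toMonoidHom.map_isConj hc
        simpa [hι.map_fixed] using this
      rw [hFc _ _ h1, hFc _ _ hc]
    · have hh : ¬ ∃ c, IsConj (φ t g) (ι c) := by
        rintro ⟨c, hc⟩
        refine hg ⟨c, ?_⟩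
        have := (φ t)⁻¹.toMonoidHom.map_isConj hc
        have hc' : (φ t)⁻¹ (ι c) = ι c := by rw [← map_inv]; exact hι.map_fixed c t⁻¹
        simpa [hc'] using this
      simp only [F, dif_neg hg, dif_neg hh]
  have hFint : ∀ g, IsIntegral ℤ (F g) := fun g => by
    by_cases hg : ∃ c, IsConj g (ι c)
    · simp only [F, dif_pos hg]; exact isIntegral_irr β _
    · simp only [F, dif_neg hg]; exact isIntegral_zero
  let a : IrrCharacter G → ℂ := fun χ => ∑ g, F g * conj (χ.1 g)
  have ha : ∀ χ, IsIntegral ℤ (a χ) := fun χ =>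
    IsIntegral.sum _ fun g _ => (hFint g).mul (isIntegral_conj_irr χ g)
  refine ⟨a, ha, fun γ => ?_⟩
  have hexp : ∀ c : C, (Nat.card G : ℂ) * β.1 c = ∑ χ : IrrCharacter G, a χ * χ.1 (ι c) := by
    intro c
    have h := congrFun (Char.eq_sum_classInner_smul hFcl) (ι c)
    rw [hFι] at h
    rw [h, Finset.sum_apply, Finset.mul_sum]
    refine Finset.sum_congr rfl fun χ _ => ?_
    rw [Pi.smul_apply, smul_eq_mul, classInner, ← mul_assoc, ← mul_assoc,
      mul_inv_cancel₀ Char.card_ne_zero, one_mul]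
  have hred : ∀ c : C, PCong p ((Nat.card G : ℂ) * β.1 c)
      (∑ χ ∈ Finset.univ.filter (fun χ : IrrCharacter G => IsFix φ χ.1), a χ * χ.1 (ι c)) := by
    intro c
    letI := charAction φ
    have h1 := pCong_sum_fixedPoints (p := p) hT (fun χ : IrrCharacter G => a χ * χ.1 (ι c))
      (fun t χ => by
        have h2 : (t • χ).1 (ι c) = χ.1 (ι c) := congrArg χ.1 (hι.map_fixed c t⁻¹)
        have h3 : a (t • χ) = a χ := by
          refine Fintype.sum_equiv (φ t⁻¹).toEquiv _ _ fun g => ?_
          show F g * conj (χ.1 (φ t⁻¹ g)) = F (φ t⁻¹ g) * conj (χ.1 (φ t⁻¹ g))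
          rw [hFfix]
        simp only [h2, h3])
      (fun χ => (ha χ).mul (isIntegral_irr χ _))
    rw [← hexp c] at h1
    refine h1.trans (PCong.of_eq (Finset.sum_congr ?_ fun _ _ => rfl))
    ext χ
    simp only [Finset.mem_filter, Finset.mem_univ, true_and]
    exact mem_fixedPoints_charAction
  have h := PCong.sum (p := p) Finset.univ fun c _ => (hred c).mul_right (isIntegral_conj_irr γ c)
  refine ((PCong.of_eq ?_).trans h).trans (PCong.of_eq ?_)
  · simp only [mul_assoc]
    rw [← Finset.mul_sum, sum_mul_conj_irr]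
    split_ifs <;> ring
  · simp only [Finset.sum_mul]
    rw [Finset.sum_comm, Finset.mul_sum]
    refine Finset.sum_congr rfl fun χ _ => ?_
    have h4 := mult_eq (ι := ι) χ γ
    simp only [classInner, inv_mul_eq_iff_eq_mul₀ Char.card_ne_zero] at h4
    simp only [mul_assoc]
    rw [← Finset.mul_sum, h4]
    ring

/-- Correspondents: fixed `χ` and `β` with multiplicity prime to `p`. -/
def Corr (p : ℕ) (φ : T →* MulAut G) (ι : C →* G) (χ : IrrCharacter G) (β : IrrCharacter C) :
    Prop :=
  IsFix φ χ.1 ∧ ¬ p ∣ mult ι χ β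

variable (hT : IsPGroup p T) (hι : IsFixedEmbedding φ ι) (hG : ¬ p ∣ Nat.card G)

include hT hι hG

theorem corr_left_unique {χ ψ : IrrCharacter G} {β : IrrCharacter C}
    (h : Corr p φ ι χ β) (h' : Corr p φ ι ψ β) : χ = ψ := by
  by_contra hne
  rcases hp.out.dvd_mul.1 (dvd_mult_mul_mult hT hι hG h.1 h'.1 hne β) with h1 | h1
  exacts [h.2 h1, h'.2 h1]

theorem exists_corr_left (β : IrrCharacter C) : ∃ χ, Corr p φ ι χ β := by
  classical
  by_contra hno
  push Not at hno
  obtain ⟨a, ha, hcong⟩ := exists_coeff hT hι hG β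
  have h := hcong β
  rw [if_pos rfl, mul_one] at h
  have h0 : PCong p ((Nat.card C : ℂ) *
      ∑ χ ∈ Finset.univ.filter (fun χ : IrrCharacter G => IsFix φ χ.1), a χ * (mult ι χ β : ℂ))
      0 := by
    have := PCong.sum (p := p) (Finset.univ.filter (fun χ : IrrCharacter G => IsFix φ χ.1))
      (f := fun χ => a χ * (mult ι χ β : ℂ)) (g := fun _ => 0) fun χ hχ => by
        have hd : p ∣ mult ι χ β := by
          by_contra hnd
          exact hno χ ⟨(Finset.mem_filter.1 hχ).2, hnd⟩
        simpa [mul_comm] using PCong.of_nat_dvd hd (ha χ)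
    simpa using this.mul_left (isIntegral_natCast' (Nat.card C))
  refine not_pCong_zero_of_not_dvd (p := p) (n := Nat.card C * Nat.card G)
    (fun hd => (hp.out.dvd_mul.1 hd).elim (hι.not_dvd_card hG) hG) ?_
  push_cast
  exact h.trans h0

theorem corr_right_unique {χ : IrrCharacter G} {β γ : IrrCharacter C}
    (h : Corr p φ ι χ β) (h' : Corr p φ ι χ γ) : β = γ := by
  classical
  by_contra hne
  obtain ⟨a, ha, hcong⟩ := exists_coeff hT hι hG β
  have hone : ∀ δ, Corr p φ ι χ δ → PCong p
      ((Nat.card C : ℂ) * ∑ ψ ∈ Finset.univ.filter (fun ψ : IrrCharacter G => IsFix φ ψ.1),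
        a ψ * (mult ι ψ δ : ℂ))
      ((Nat.card C : ℂ) * (a χ * (mult ι χ δ : ℂ))) := by
    intro δ hδ
    refine PCong.mul_left (isIntegral_natCast' _) ?_
    rw [← Finset.add_sum_erase _ _ (Finset.mem_filter.2 ⟨Finset.mem_univ χ, hδ.1⟩)]
    have := PCong.sum (p := p) ((Finset.univ.filter (fun ψ : IrrCharacter G => IsFix φ ψ.1)).erase χ)
      (f := fun ψ => a ψ * (mult ι ψ δ : ℂ)) (g := fun _ => 0) fun ψ hψ => by
        obtain ⟨hne', hψ'⟩ := Finset.mem_erase.1 hψ
        have hd : p ∣ mult ι ψ δ := by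
          by_contra hnd
          exact hne' (corr_left_unique hT hι hG ⟨(Finset.mem_filter.1 hψ').2, hnd⟩ hδ)
        simpa [mul_comm] using PCong.of_nat_dvd hd (ha ψ)
    simpa using (PCong.refl (p := p) (a χ * (mult ι χ δ : ℂ))).add this
  have hC := hι.not_dvd_card hG
  have h1 : PCong p (a χ) 0 := by
    have e := (hcong γ).trans (hone γ h')
    rw [if_neg hne, mul_zero, mul_zero] at e
    refine PCong.cancel (n := ((Nat.card C * mult ι χ γ : ℕ) : ℤ))
      (fun hd => (hp.out.dvd_mul.1 (Int.natCast_dvd_natCast.1 hd)).elim hC h'.2) (ha χ) ?_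
    refine (PCong.of_eq ?_).trans e.symm
    push_cast; ring
  have e := (hcong β).trans (hone β h)
  rw [if_pos rfl, mul_one] at e
  refine not_pCong_zero_of_not_dvd (p := p) (n := Nat.card C * Nat.card G)
    (fun hd => (hp.out.dvd_mul.1 hd).elim hC hG) ?_
  push_cast
  refine e.trans ?_
  simpa using (h1.mul_right (isIntegral_natCast' (mult ι χ β))).mul_left
    (isIntegral_natCast' (Nat.card C))

theorem exists_corr_right {χ : IrrCharacter G} (hχ : IsFix φ χ.1) :
    ∃ β, Corr p φ ι χ β := by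
  by_contra hno
  push Not at hno
  have h := sum_mult_mul hT hι hG hχ hχ
  rw [if_pos rfl] at h
  have h0 : p ∣ ∑ β : IrrCharacter C, mult ι χ β * mult ι χ β :=
    Finset.dvd_sum fun β _ => dvd_mul_of_dvd_left (by
      by_contra hnd; exact hno β ⟨hχ, hnd⟩) _
  have h1 : (p : ℤ) ∣ 1 := by
    have := dvd_sub (Int.natCast_dvd_natCast.2 h0) h
    simpa using this
  exact hp.out.one_lt.ne' (Nat.dvd_one.1 (Int.natCast_dvd_natCast.1 (by simpa using h1)))

theorem existsUnique_corr {χ : IrrCharacter G} (hχ : IsFix φ χ.1) :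
    ∃! β, Corr p φ ι χ β := by
  obtain ⟨β, hβ⟩ := exists_corr_right hT hι hG hχ
  exact ⟨β, hβ, fun γ hγ => corr_right_unique hT hι hG hγ hβ⟩

theorem mult_modEq {χ : IrrCharacter G} {β : IrrCharacter C} (h : Corr p φ ι χ β) :
    (mult ι χ β : ℤ) ≡ 1 [ZMOD p] ∨ (mult ι χ β : ℤ) ≡ -1 [ZMOD p] := by
  classical
  have h1 := sum_mult_mul hT hι hG h.1 h.1
  rw [if_pos rfl, ← Finset.add_sum_erase _ _ (Finset.mem_univ β)] at h1
  have h2 : p ∣ ∑ γ ∈ Finset.univ.erase β, mult ι χ γ * mult ι χ γ :=
    Finset.dvd_sum fun γ hγ => dvd_mul_of_dvd_left (by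
      by_contra hnd
      exact (Finset.mem_erase.1 hγ).1 (corr_right_unique hT hι hG ⟨h.1, hnd⟩ h)) _
  have h3 : (p : ℤ) ∣ ((mult ι χ β : ℤ) - 1) * ((mult ι χ β : ℤ) + 1) := by
    have := dvd_sub h1 (Int.natCast_dvd_natCast.2 h2)
    push_cast at this ⊢
    have e : ((mult ι χ β : ℤ) - 1) * ((mult ι χ β : ℤ) + 1) =
        (mult ι χ β : ℤ) * mult ι χ β - 1 := by ring
    rw [e]
    have hz : ∀ a b : ℤ, a + b - 1 - b = a - 1 := fun a b => by ring
    rwa [hz] at this
  rcases (Nat.prime_iff_prime_int.1 hp.out).dvd_mul.1 h3 with h4 | h4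
  · left; exact (Int.modEq_iff_dvd.2 h4).symm
  · right
    refine (Int.modEq_iff_dvd.2 ?_).symm
    simpa using h4

/-- The correspondence as a bijection. -/
noncomputable def corrEquiv : {χ : IrrCharacter G // IsFix φ χ.1} ≃ IrrCharacter C :=
  Equiv.ofBijective (fun χ => (exists_corr_right hT hι hG χ.2).choose) ⟨fun χ ψ h => by
      have h1 := (exists_corr_right hT hι hG χ.2).choose_spec
      have h2 := (exists_corr_right hT hι hG ψ.2).choose_spec
      exact Subtype.ext (corr_left_unique hT hι hG h1 (by dsimp only at h; rw [h]; exact h2)),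
    fun β => by
      obtain ⟨χ, hχ⟩ := exists_corr_left hT hι hG β
      exact ⟨⟨χ, hχ.1⟩, corr_right_unique hT hι hG
        (exists_corr_right hT hι hG hχ.1).choose_spec hχ⟩⟩

theorem corr_corrEquiv (χ : {χ : IrrCharacter G // IsFix φ χ.1}) :
    Corr p φ ι χ.1 (corrEquiv hT hι hG χ) :=
  (exists_corr_right hT hι hG χ.2).choose_spec

omit hT hι hG in
/-- Compatible automorphisms preserve multiplicities. -/
theorem mult_twist (e : MulAut G) (e' : MulAut C) (h : ∀ c, e (ι c) = ι (e' c))
    (χ : IrrCharacter G) (β : IrrCharacter C) :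
    mult ι (twistChar e χ) (twistChar e' β) = mult ι χ β := by
  have h1 := mult_eq (ι := ι) (twistChar e χ) (twistChar e' β)
  rw [← Nat.cast_inj (R := ℂ), ← h1, ← mult_eq]
  simp only [classInner, twistChar_apply, h]
  congr 1
  exact Fintype.sum_equiv e'.toEquiv _ _ fun c => rfl

end Main

end Cfsg.Agent.Glauberman
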