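import Cfsg.Agent.Lib.Glauberman.RelativeBase
import Cfsg.Agent.Lib.Char.KernelSum

/-!
# The relative Glauberman correspondence

A `p`-group `T` acts on `K` with an invariant normal Sylow `p`-subgroup `Q`, and `C / Q` is the
fixed-point subgroup of `K / Q`. Fixed characters of `K` and of `C` correspond through multiplicities
prime to `p`: over a fixed `θ ∈ Irr Q` both sides are parametrised by Gallagher with the canonical
extension, and multiplicities become those of the Glauberman correspondence for `I / Q`.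
-/

set_option autoImplicit false
set_option linter.style.haveILetI false
set_option linter.unusedSectionVars false

namespace Cfsg.Agent.RelGlauberman

open Cfsg Cfsg.Agent.Char Cfsg.Agent.Glauberman
open scoped ComplexConjugate

universe u v

variable {p : ℕ} [hp : Fact p.Prime] {T : Type v} [Group T] [Finite T] {K : Type u} [Group K]
  [Fintype K]

attribute [local instance 10] Fintype.ofFinite

/-- The data of the relative correspondence. -/
structure RelSetting (p : ℕ) (φ : T →* MulAut K) (Q C : Subgroup K) : Prop where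
  isPGroup : IsPGroup p T
  card_Q : ∃ a : ℕ, Nat.card Q = p ^ a
  not_dvd_index : ¬ p ∣ Q.index
  invQ : ∀ t, ∀ x ∈ Q, φ t x ∈ Q
  mem_C : ∀ k : K, k ∈ C ↔ ∀ t, φ t k * k⁻¹ ∈ Q

variable {φ : T →* MulAut K} {Q C : Subgroup K}

theorem RelSetting.le_C (hS : RelSetting p φ Q C) : Q ≤ C := fun q hq =>
  (hS.mem_C q).2 fun t => Q.mul_mem (hS.invQ t q hq) (Q.inv_mem hq)

theorem RelSetting.invC (hS : RelSetting p φ Q C) : ∀ t, ∀ x ∈ C, φ t x ∈ C := fun t x hx => by
  refine (hS.mem_C _).2 fun s => ?_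
  have h1 := (hS.mem_C x).1 hx (s * t)
  have h2 := (hS.mem_C x).1 hx t
  have : φ s (φ t x) * (φ t x)⁻¹ = (φ (s * t) x * x⁻¹) * (φ t x * x⁻¹)⁻¹ := by
    rw [map_mul, MulAut.mul_apply]; group
  rw [this]
  exact Q.mul_mem h1 (Q.inv_mem h2)

variable [Q.Normal]

theorem RelSetting.mk_map_eq (hS : RelSetting p φ Q C) {x : K} (hx : x ∈ C) (t : T) :
    ((φ t x : K) : K ⧸ Q) = x := by
  rw [QuotientGroup.eq_iff_div_mem, div_eq_mul_inv]
  exact (hS.mem_C x).1 hx t

theorem RelSetting.mem_C_of_mk (hS : RelSetting p φ Q C) {x : K}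
    (h : ∀ t, ((φ t x : K) : K ⧸ Q) = x) : x ∈ C :=
  (hS.mem_C x).2 fun t => by
    rw [← div_eq_mul_inv, ← QuotientGroup.eq_iff_div_mem]
    exact h t

variable (hS : RelSetting p φ Q C)

/-- The action on `Q`. -/
abbrev actQ : T →* MulAut Q := restrictAut φ Q hS.invQ

/-- The action on `C`. -/
abbrev actC : T →* MulAut C := restrictAut φ C hS.invC

/-- Fixed characters of `Q` conjugate in `K` are conjugate in `C`. -/
theorem exists_mem_C_conj {θ θ' : IrrCharacter Q} (hθ : IsFix (actQ hS) θ.1)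
    (hθ' : IsFix (actQ hS) θ'.1) {g : K} (hg : conjFun Q θ.1 g = θ'.1) :
    ∃ c ∈ C, conjFun Q θ.1 c = θ'.1 := by
  classical
  letI : MulAction T (K ⧸ Q) := MulAction.compHom _ (quotAut φ Q hS.invQ)
  let X : SubMulAction T (K ⧸ Q) :=
    { carrier := {q | ∃ k : K, (k : K ⧸ Q) = q ∧ conjFun Q θ.1 k = θ'.1}
      smul_mem' := by
        rintro t q ⟨k, rfl, hk⟩
        exact ⟨φ t k, rfl, conjFun_map_eq φ Q hS.invQ hθ hθ' hk t⟩ }
  have hX : ¬ p ∣ Nat.card X := by
    have e : X ≃ (inertia Q θ.1).map (QuotientGroup.mk' Q) :=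
      { toFun := fun q => ⟨q.1 * (g : K ⧸ Q)⁻¹, by
          obtain ⟨k, hk, hk'⟩ := q.2
          refine ⟨k * g⁻¹, ?_, by rw [← hk]; rfl⟩
          show conjFun Q θ.1 (k * g⁻¹) = θ.1
          rw [conjFun_mul, hk', ← hg, ← conjFun_mul, mul_inv_cancel, conjFun_one]⟩
        invFun := fun q => ⟨q.1 * (g : K ⧸ Q), by
          obtain ⟨k, hk, hk'⟩ := q.2
          refine ⟨k * g, by rw [← hk']; rfl, ?_⟩
          have hk : conjFun Q θ.1 k = θ.1 := hk
          rw [conjFun_mul, hk, hg]⟩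
        left_inv := fun q => Subtype.ext (by simp)
        right_inv := fun q => Subtype.ext (by simp) }
    rw [Nat.card_congr e]
    exact fun h => hS.not_dvd_index
      (h.trans ((Subgroup.card_subgroup_dvd_card _).trans (Subgroup.index_eq_card Q).symm.dvd))
  obtain ⟨⟨q, k, rfl, hk⟩, hfix⟩ := hS.isPGroup.nonempty_fixed_point_of_prime_not_dvd_card X hX
  exact ⟨k, hS.mem_C_of_mk fun t => congrArg Subtype.val (hfix t), hk⟩

section Fibre

variable {θ : IrrCharacter Q} (hθ : IsFix (actQ hS) θ.1)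

include hS hθ in
theorem inertia_invariant : ∀ t, ∀ x ∈ inertia Q θ.1, φ t x ∈ inertia Q θ.1 :=
  fun t _ hx => conjFun_map_eq φ Q hS.invQ hθ hθ hx t

include hS in
theorem existsUnique_ext : ∃! χ : IrrCharacter (inertia Q θ.1),
    (∀ n : Q.subgroupOf (inertia Q θ.1),
      χ.1 n = (toSubgroupOf Q (irr_le_inertia Q θ) θ).1 n) ∧
    ∀ g, Clifford.detChar χ g ^ Nat.card (Q.subgroupOf (inertia Q θ.1)) = 1 := by
  refine Clifford.existsUnique_extension_of_coprime_card _
    (fun g => (conjFun_toSubgroupOf_iff Q (irr_le_inertia Q θ) θ g).2 g.2) ?_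
  obtain ⟨a, ha⟩ := hS.card_Q
  rw [Nat.card_congr (Subgroup.subgroupOfEquivOfLe (irr_le_inertia Q θ)).toEquiv, ha]
  refine (Nat.Coprime.pow_left a (hp.out.coprime_iff_not_dvd.2 fun h => hS.not_dvd_index ?_)).symm
  exact h.trans (Subgroup.relIndex_dvd_index_of_normal Q (inertia Q θ.1))

/-- The canonical extension of `θ` to its inertia group. -/
noncomputable def canExt : IrrCharacter (inertia Q θ.1) :=
  (existsUnique_ext hS (θ := θ)).choose

theorem canExt_apply (n : Q) :
    (canExt hS (θ := θ)).1 ⟨n, irr_le_inertia Q θ n.2⟩ = θ.1 n :=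
  (existsUnique_ext hS (θ := θ)).choose_spec.1.1
    ⟨⟨n, irr_le_inertia Q θ n.2⟩, Subgroup.mem_subgroupOf.2 n.2⟩

/-- The action on the inertia group. -/
abbrev actI : T →* MulAut (inertia Q θ.1) :=
  restrictAut φ (inertia Q θ.1) (inertia_invariant hS hθ)

theorem canExt_fix : IsFix (actI hS hθ) (canExt hS (θ := θ)).1 := by
  intro t g
  have h := (existsUnique_ext hS (θ := θ)).choose_spec
  have he : twistChar (actI hS hθ t) (canExt hS (θ := θ)) = canExt hS (θ := θ) := by
    refine h.2 _ ⟨fun n => ?_, fun x => ?_⟩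
    · have h1 := h.1.1 ⟨actI hS hθ t n, Subgroup.mem_subgroupOf.2
        (hS.invQ t _ (Subgroup.mem_subgroupOf.1 n.2))⟩
      refine h1.trans ?_
      exact hθ t ⟨((n : inertia Q θ.1) : K), Subgroup.mem_subgroupOf.1 n.2⟩
    · rw [Clifford.detChar_comp (canExt hS (θ := θ)) (actI hS hθ t).toMonoidHom
        (twistChar (actI hS hθ t) (canExt hS (θ := θ))) (fun _ => rfl)]
      exact h.1.2 _
  exact congrFun (congrArg Subtype.val he) g

/-- The inclusion of the inertia group in `C` into that in `K`. -/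
def jHom (θ : IrrCharacter Q) : (inertia Q θ.1).subgroupOf C →* inertia Q θ.1 :=
  MonoidHom.mk' (fun u => ⟨((u : C) : K), Subgroup.mem_subgroupOf.1 u.2⟩) fun _ _ => rfl

include hS in
theorem le_inertiaC : Q.subgroupOf C ≤ (inertia Q θ.1).subgroupOf C :=
  fun _ hc => irr_le_inertia Q θ hc

theorem mem_inertiaC (c : C) : c ∈ (inertia Q θ.1).subgroupOf C ↔
    conjFun (Q.subgroupOf C) (toSubgroupOf Q hS.le_C θ).1 c = (toSubgroupOf Q hS.le_C θ).1 := by
  rw [Subgroup.mem_subgroupOf, mem_inertia, conjFun_toSubgroupOf_iff]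

/-- The canonical extension read in `C`. -/
noncomputable def extC : IrrCharacter ((inertia Q θ.1).subgroupOf C) :=
  ⟨fun u => (canExt hS (θ := θ)).1 (jHom θ u), by
    refine isIrrCharacter_of_resFun (N := (Q.subgroupOf C).subgroupOf ((inertia Q θ.1).subgroupOf C))
      (IsCharacter.comp (irr_isCharacter (canExt hS (θ := θ))) (jHom θ)) ?_
    have e : resFun ((Q.subgroupOf C).subgroupOf ((inertia Q θ.1).subgroupOf C))
        (fun u => (canExt hS (θ := θ)).1 (jHom θ u)) = (toSubgroupOf (Q.subgroupOf C)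
          (le_inertiaC hS) (toSubgroupOf Q hS.le_C θ)).1 :=
      funext fun x => canExt_apply hS ⟨(((x : (inertia Q θ.1).subgroupOf C) : C) : K),
        Subgroup.mem_subgroupOf.1 (Subgroup.mem_subgroupOf.1 x.2)⟩
    rw [e]
    exact (toSubgroupOf (Q.subgroupOf C) (le_inertiaC hS) (toSubgroupOf Q hS.le_C θ)).2⟩

theorem extC_apply (n : Q.subgroupOf C) :
    (extC hS (θ := θ)).1 ⟨n, le_inertiaC hS n.2⟩ = (toSubgroupOf Q hS.le_C θ).1 n :=
  canExt_apply hS ⟨((n : C) : K), Subgroup.mem_subgroupOf.1 n.2⟩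

/-- The characters of `K` over `θ`. -/
noncomputable def liftK (β : IrrCharacter (inertia Q θ.1 ⧸ Q.subgroupOf (inertia Q θ.1))) :
    IrrCharacter K :=
  cgLift (irr_le_inertia Q θ) (fun _ => mem_inertia Q) (canExt_apply hS) β

/-- The characters of `C` over `θ`. -/
noncomputable def liftC (γ : IrrCharacter (((inertia Q θ.1).subgroupOf C) ⧸
    (Q.subgroupOf C).subgroupOf ((inertia Q θ.1).subgroupOf C))) : IrrCharacter C :=
  cgLift (le_inertiaC hS) (mem_inertiaC hS) (extC_apply hS) γ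

/-- The embedding of the fixed points of `I / Q`. -/
def emb (θ : IrrCharacter Q) :
    ((inertia Q θ.1).subgroupOf C) ⧸ (Q.subgroupOf C).subgroupOf ((inertia Q θ.1).subgroupOf C) →*
      inertia Q θ.1 ⧸ Q.subgroupOf (inertia Q θ.1) :=
  QuotientGroup.map _ _ (jHom θ) fun _ hu => hu

/-- The action on `I / Q`. -/
abbrev actH : T →* MulAut (inertia Q θ.1 ⧸ Q.subgroupOf (inertia Q θ.1)) :=
  quotAut (actI hS hθ) (Q.subgroupOf (inertia Q θ.1)) fun t x hx =>
    Subgroup.mem_subgroupOf.2 (hS.invQ t x (Subgroup.mem_subgroupOf.1 hx))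

theorem emb_isFixedEmbedding : IsFixedEmbedding (actH hS hθ) (emb (C := C) θ) := by
  constructor
  · refine (injective_iff_map_eq_one _).2 fun q hq => ?_
    obtain ⟨u, rfl⟩ := QuotientGroup.mk_surjective q
    exact (QuotientGroup.eq_one_iff u).2 ((QuotientGroup.eq_one_iff (jHom θ u)).1 hq :)
  · intro q
    obtain ⟨x, rfl⟩ := QuotientGroup.mk_surjective q
    constructor
    · rintro ⟨q', hq'⟩ t
      obtain ⟨u, rfl⟩ := QuotientGroup.mk_surjective q'
      rw [← hq']
      refine QuotientGroup.eq_iff_div_mem.2 (Subgroup.mem_subgroupOf.2 ?_)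
      show φ t ((u : C) : K) / ((u : C) : K) ∈ Q
      exact QuotientGroup.eq_iff_div_mem.1 (hS.mk_map_eq (u : C).2 t)
    · intro h
      have hxC : (x : K) ∈ C := hS.mem_C_of_mk fun t =>
        QuotientGroup.eq_iff_div_mem.2 (Subgroup.mem_subgroupOf.1
          (QuotientGroup.eq_iff_div_mem.1 (h t)) :)
      exact ⟨((⟨⟨x, hxC⟩, Subgroup.mem_subgroupOf.2 x.2⟩ : (inertia Q θ.1).subgroupOf C) :
        (inertia Q θ.1).subgroupOf C ⧸ _), rfl⟩

include hS in
theorem not_dvd_card_quot :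
    ¬ p ∣ Nat.card (inertia Q θ.1 ⧸ Q.subgroupOf (inertia Q θ.1)) := fun h => by
  rw [← Subgroup.index_eq_card] at h
  exact hS.not_dvd_index (h.trans (Subgroup.relIndex_dvd_index_of_normal Q (inertia Q θ.1)))

/-- Multiplicities between the lifts are those between the parameters. -/
theorem mult_lift (β : IrrCharacter (inertia Q θ.1 ⧸ Q.subgroupOf (inertia Q θ.1)))
    (γ : IrrCharacter (((inertia Q θ.1).subgroupOf C) ⧸
      (Q.subgroupOf C).subgroupOf ((inertia Q θ.1).subgroupOf C))) :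
    mult C.subtype (liftK hS β) (liftC hS γ) = mult (emb θ) β γ := by
  rw [← Nat.cast_inj (R := ℂ), ← mult_eq, ← mult_eq, liftC, cgLift_coe,
    classInner_indFun_right _ _
      (IsCharacter.isClassFunction (IsCharacter.comp (irr_isCharacter (liftK hS β)) C.subtype))]
  have hχ := irr_isCharacter (liftK hS β)
  have hirr := isIrr_mulQuotient_ext (irr_le_inertia Q θ) (canExt_apply hS) β
  have hirr' := isIrr_mulQuotient_ext (le_inertiaC hS) (extC_apply hS) γ
  let g : Q →* (inertia Q θ.1).subgroupOf C :=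
    MonoidHom.mk' (fun n => ⟨⟨n, hS.le_C n.2⟩,
      Subgroup.mem_subgroupOf.2 (irr_le_inertia Q θ n.2)⟩) fun _ _ => rfl
  have key := classInner_comp_eq (jHom θ) g (IsCharacter.restrict hχ (inertia Q θ.1)) ⟨_, hirr⟩
    ⟨_, hirr'⟩ θ ?_ ?_ ?_
  · refine Eq.trans key ?_
    exact classInner_mulQuotient _ (extC hS (θ := θ))
      (by rw [resFun_ext_eq (le_inertiaC hS) (extC_apply hS)]
          exact (toSubgroupOf (Q.subgroupOf C) (le_inertiaC hS) (toSubgroupOf Q hS.le_C θ)).2)
      (fun q => β.1 (emb θ q)) γ.1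
  · have h := classInner_indFun_right (inertia Q θ.1)
      (mulQuotient (Q.subgroupOf (inertia Q θ.1)) (canExt hS (θ := θ)).1 β.1)
      (IsCharacter.isClassFunction hχ)
    exact h.symm.trans (classInner_irr_self (liftK hS β).2)
  · refine Eq.trans
      (classInner_resFun_cgLift (irr_le_inertia Q θ) (fun _ => mem_inertia Q) (canExt_apply hS) β) ?_
    have : (fun n : Q => mulQuotient (Q.subgroupOf (inertia Q θ.1)) (canExt hS (θ := θ)).1 β.1
        (jHom θ (g n))) = (degree β : ℂ) • θ.1 :=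
      funext fun n => mulQuotient_ext_apply (irr_le_inertia Q θ) (canExt_apply hS) β n
    show _ = classInner (fun n : Q => mulQuotient (Q.subgroupOf (inertia Q θ.1))
      (canExt hS (θ := θ)).1 β.1 (jHom θ (g n))) θ.1
    rw [this, classInner_smul_left, classInner_irr_self θ.2, mul_one]
  · have : (fun n : Q => mulQuotient ((Q.subgroupOf C).subgroupOf ((inertia Q θ.1).subgroupOf C))
        (extC hS (θ := θ)).1 γ.1 (g n)) = (degree γ : ℂ) • θ.1 :=
      funext fun n => mulQuotient_ext_apply (le_inertiaC hS) (extC_apply hS) γ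
        ⟨⟨n, hS.le_C n.2⟩, Subgroup.mem_subgroupOf.2 n.2⟩
    show classInner (fun n : Q =>
      mulQuotient ((Q.subgroupOf C).subgroupOf ((inertia Q θ.1).subgroupOf C))
        (extC hS (θ := θ)).1 γ.1 (g n)) θ.1 ≠ 0
    rw [this, classInner_smul_left, classInner_irr_self θ.2, mul_one]
    exact Nat.cast_ne_zero.2 (degree_pos γ).ne'

theorem liftK_fix_iff {β : IrrCharacter (inertia Q θ.1 ⧸ Q.subgroupOf (inertia Q θ.1))} :
    IsFix φ (liftK hS β).1 ↔ IsFix (actH hS hθ) β.1 := by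
  have htw : ∀ t g, (liftK hS β).1 (φ t g) =
      (liftK hS (twistChar (actH hS hθ t) β)).1 g := fun t g =>
    cgLift_comp_aut (irr_le_inertia Q θ) (fun _ => mem_inertia Q) (canExt_apply hS) (φ t)
      (actI hS hθ t) (actH hS hθ t) (fun _ => rfl) (fun _ => rfl) (canExt_fix hS hθ t) β _
      (fun _ => rfl) g
  constructor
  · intro h t q
    have h1 : liftK hS (twistChar (actH hS hθ t) β) = liftK hS β :=
      Subtype.ext (funext fun g => by rw [← htw, h])
    exact congrFun (congrArg Subtype.val (cgLift_injective _ _ _ h1)) q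
  · intro h t g
    have h1 : twistChar (actH hS hθ t) β = β := Subtype.ext (funext fun q => h t q)
    rw [htw, h1]

include hθ in
theorem liftC_fix (γ : IrrCharacter (((inertia Q θ.1).subgroupOf C) ⧸
    (Q.subgroupOf C).subgroupOf ((inertia Q θ.1).subgroupOf C))) :
    IsFix (actC hS) (liftC hS γ).1 := fun t g =>
  cgLift_comp_aut (le_inertiaC hS) (mem_inertiaC hS) (extC_apply hS) (actC hS t)
    (restrictAut (actC hS) ((inertia Q θ.1).subgroupOf C)
      (fun s x hx => inertia_invariant hS hθ s x hx) t)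
    (MulEquiv.refl _) (fun _ => rfl)
    (fun x => (QuotientGroup.eq_iff_div_mem.2 (Subgroup.mem_subgroupOf.2
      (Subgroup.mem_subgroupOf.2 (show φ t ((x : C) : K) / ((x : C) : K) ∈ Q from
        QuotientGroup.eq_iff_div_mem.1 (hS.mk_map_eq (x : C).2 t))))).symm)
    (fun x => canExt_fix hS hθ t (jHom θ x)) γ γ (fun _ => rfl) g

theorem exists_liftK (χ : IrrCharacter K) (hχ : classInner (resFun Q χ.1) θ.1 ≠ 0) :
    ∃ β, liftK hS (θ := θ) β = χ :=
  exists_cgLift_eq (irr_le_inertia Q θ) (fun _ => mem_inertia Q) (canExt_apply hS) χ hχ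

theorem exists_liftC (ξ : IrrCharacter C) (hξ : classInner (resIncl Q hS.le_C ξ.1) θ.1 ≠ 0) :
    ∃ γ, liftC hS (θ := θ) γ = ξ :=
  exists_cgLift_eq (le_inertiaC hS) (mem_inertiaC hS) (extC_apply hS) ξ
    (by rw [classInner_toSubgroupOf Q hS.le_C]; exact hξ)

end Fibre

/-- A fixed character of `C` has a fixed constituent on `Q`. -/
theorem exists_fix_constituent_C {ξ : IrrCharacter C} (hξ : IsFix (actC hS) ξ.1) :
    ∃ θ : IrrCharacter Q, IsFix (actQ hS) θ.1 ∧ classInner (resIncl Q hS.le_C ξ.1) θ.1 ≠ 0 := by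
  obtain ⟨η, hη, hη'⟩ := exists_fix_constituent (actC hS) (Q.subgroupOf C)
    (fun t x hx => Subgroup.mem_subgroupOf.2 (hS.invQ t x (Subgroup.mem_subgroupOf.1 hx)))
    hS.isPGroup (fun h => hS.not_dvd_index (h.trans (Subgroup.relIndex_dvd_index_of_normal Q C)))
    hξ
  set e := Subgroup.subgroupOfEquivOfLe hS.le_C
  let θ : IrrCharacter Q :=
    ⟨fun n => η.1 (e.symm n), IsIrrCharacter.comp_surjective η.2 e.symm.toMonoidHom e.symm.surjective⟩
  have he : toSubgroupOf Q hS.le_C θ = η :=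
    Subtype.ext (funext fun x => congrArg η.1 (e.symm_apply_apply x))
  refine ⟨θ, fun t n => ?_, ?_⟩
  · show η.1 (e.symm (actQ hS t n)) = η.1 (e.symm n)
    refine Eq.trans ?_ (hη t (e.symm n))
    exact congrArg η.1 (Subtype.ext (Subtype.ext rfl))
  · rw [← classInner_toSubgroupOf Q hS.le_C, he]
    exact hη'

/-- A character with nonzero multiplicity has the constituents on `Q` of its partner. -/
theorem over_of_mult {χ : IrrCharacter K} {ξ : IrrCharacter C} {θ : IrrCharacter Q}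
    (hm : mult C.subtype χ ξ ≠ 0) (hξ : classInner (resIncl Q hS.le_C ξ.1) θ.1 ≠ 0) :
    classInner (resFun Q χ.1) θ.1 ≠ 0 := fun h => by
  have h1 := classInner_eq_zero_of_comp (Subgroup.inclusion hS.le_C)
    (IsCharacter.comp (irr_isCharacter χ) C.subtype) ξ θ h hξ
  rw [mult_eq] at h1
  exact hm (Nat.cast_eq_zero.1 h1)

/-- If moreover both are fixed, `ξ` lies over every fixed constituent of `χ`. -/
theorem overC_of_mult {χ : IrrCharacter K} {ξ : IrrCharacter C} {θ : IrrCharacter Q}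
    (hθ : IsFix (actQ hS) θ.1) (hχ : classInner (resFun Q χ.1) θ.1 ≠ 0)
    (hξ : IsFix (actC hS) ξ.1) (hm : mult C.subtype χ ξ ≠ 0) :
    classInner (resIncl Q hS.le_C ξ.1) θ.1 ≠ 0 := by
  obtain ⟨θ', hθ', hξ'⟩ := exists_fix_constituent_C hS hξ
  obtain ⟨g, hg⟩ := exists_conjChar_of_constituents Q χ θ θ' hχ (over_of_mult hS hm hξ')
  obtain ⟨c, hc, hc'⟩ := exists_mem_C_conj hS hθ hθ' (congrArg Subtype.val hg).symm
  rw [← classInner_toSubgroupOf Q hS.le_C] at hξ' ⊢
  rw [← classInner_resFun_conjFun (Q.subgroupOf C)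
    (IsCharacter.isClassFunction (irr_isCharacter ξ)) _ ⟨c, hc⟩]
  refine (?_ : conjFun (Q.subgroupOf C) (toSubgroupOf Q hS.le_C θ).1 ⟨c, hc⟩ =
    (toSubgroupOf Q hS.le_C θ').1).symm ▸ hξ'
  funext x
  refine Eq.trans ?_ (congrFun hc' ⟨((x : C) : K), Subgroup.mem_subgroupOf.1 x.2⟩)
  exact congrArg θ.1 (Subtype.ext (by simp [Subgroup.subgroupOfEquivOfLe]))

/-- Correspondents. -/
def RelCorr (χ : IrrCharacter K) (ξ : IrrCharacter C) : Prop :=
  IsFix φ χ.1 ∧ IsFix (actC hS) ξ.1 ∧ ¬ p ∣ mult C.subtype χ ξ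

theorem mult_ne_zero_of_not_dvd {χ : IrrCharacter K} {ξ : IrrCharacter C}
    (h : ¬ p ∣ mult C.subtype χ ξ) : mult C.subtype χ ξ ≠ 0 := fun h0 => h (h0 ▸ dvd_zero p)

theorem exists_relCorr_right {χ : IrrCharacter K} (hχ : IsFix φ χ.1) :
    ∃ ξ, RelCorr hS χ ξ := by
  obtain ⟨θ, hθ, hover⟩ := exists_fix_constituent φ Q hS.invQ hS.isPGroup hS.not_dvd_index hχ
  obtain ⟨β, rfl⟩ := exists_liftK hS χ hover
  obtain ⟨γ, hγ⟩ := exists_corr_right hS.isPGroup (emb_isFixedEmbedding hS hθ)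
    (not_dvd_card_quot hS) ((liftK_fix_iff hS hθ).1 hχ)
  exact ⟨liftC hS γ, hχ, liftC_fix hS hθ γ, by rw [mult_lift]; exact hγ.2⟩

theorem exists_relCorr_left {ξ : IrrCharacter C} (hξ : IsFix (actC hS) ξ.1) :
    ∃ χ, RelCorr hS χ ξ := by
  obtain ⟨θ, hθ, hover⟩ := exists_fix_constituent_C hS hξ
  obtain ⟨γ, rfl⟩ := exists_liftC hS ξ hover
  obtain ⟨β, hβ⟩ := exists_corr_left hS.isPGroup (emb_isFixedEmbedding hS hθ)
    (not_dvd_card_quot hS) γ
  exact ⟨liftK hS β, (liftK_fix_iff hS hθ).2 hβ.1, hξ, by rw [mult_lift]; exact hβ.2⟩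

theorem RelCorr.exists_lift {χ : IrrCharacter K} {ξ : IrrCharacter C} (h : RelCorr hS χ ξ)
    {θ : IrrCharacter Q} (hθ : IsFix (actQ hS) θ.1)
    (hover : classInner (resFun Q χ.1) θ.1 ≠ 0) :
    ∃ β γ, liftK hS (θ := θ) β = χ ∧ liftC hS (θ := θ) γ = ξ ∧
      Corr p (actH hS hθ) (emb θ) β γ := by
  obtain ⟨β, rfl⟩ := exists_liftK hS χ hover
  obtain ⟨γ, rfl⟩ := exists_liftC hS ξ
    (overC_of_mult hS hθ hover h.2.1 (mult_ne_zero_of_not_dvd h.2.2))
  exact ⟨β, γ, rfl, rfl, (liftK_fix_iff hS hθ).1 h.1, by rw [← mult_lift hS]; exact h.2.2⟩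

theorem relCorr_right_unique {χ : IrrCharacter K} {ξ ξ' : IrrCharacter C}
    (h : RelCorr hS χ ξ) (h' : RelCorr hS χ ξ') : ξ = ξ' := by
  obtain ⟨θ, hθ, hover⟩ := exists_fix_constituent φ Q hS.invQ hS.isPGroup hS.not_dvd_index h.1
  obtain ⟨β, γ, h1, rfl, hc⟩ := h.exists_lift hS hθ hover
  obtain ⟨β', γ', h1', rfl, hc'⟩ := h'.exists_lift hS hθ hover
  obtain rfl : β = β' := cgLift_injective _ _ _ (h1.trans h1'.symm)
  rw [corr_right_unique hS.isPGroup (emb_isFixedEmbedding hS hθ) (not_dvd_card_quot hS) hc hc']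

theorem relCorr_left_unique {χ χ' : IrrCharacter K} {ξ : IrrCharacter C}
    (h : RelCorr hS χ ξ) (h' : RelCorr hS χ' ξ) : χ = χ' := by
  obtain ⟨θ, hθ, hξ⟩ := exists_fix_constituent_C hS h.2.1
  obtain ⟨β, γ, rfl, h2, hc⟩ :=
    h.exists_lift hS hθ (over_of_mult hS (mult_ne_zero_of_not_dvd h.2.2) hξ)
  obtain ⟨β', γ', rfl, h2', hc'⟩ :=
    h'.exists_lift hS hθ (over_of_mult hS (mult_ne_zero_of_not_dvd h'.2.2) hξ)
  obtain rfl : γ = γ' := cgLift_injective _ _ _ (h2.trans h2'.symm)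
  rw [corr_left_unique hS.isPGroup (emb_isFixedEmbedding hS hθ) (not_dvd_card_quot hS) hc hc']

theorem relCorr_mult_cast {χ : IrrCharacter K} {ξ : IrrCharacter C} (h : RelCorr hS χ ξ) :
    (mult C.subtype χ ξ : ZMod p) = 1 ∨ (mult C.subtype χ ξ : ZMod p) = -1 := by
  obtain ⟨θ, hθ, hover⟩ := exists_fix_constituent φ Q hS.invQ hS.isPGroup hS.not_dvd_index h.1
  obtain ⟨β, γ, rfl, rfl, hc⟩ := h.exists_lift hS hθ hover
  rw [mult_lift]
  rcases mult_modEq hS.isPGroup (emb_isFixedEmbedding hS hθ) (not_dvd_card_quot hS) hc with h1 | h1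
  · left; simpa using (ZMod.intCast_eq_intCast_iff _ _ p).2 h1
  · right; simpa using (ZMod.intCast_eq_intCast_iff _ _ p).2 h1

/-- The inertia indices in `K` and in `C` agree modulo `p`. -/
theorem index_inertia_cast {θ : IrrCharacter Q} (hθ : IsFix (actQ hS) θ.1) :
    ((inertia Q θ.1).index : ZMod p) = (((inertia Q θ.1).subgroupOf C).index : ZMod p) := by
  classical
  rw [show (inertia Q θ.1).subgroupOf C = inertia (Q.subgroupOf C) (toSubgroupOf Q hS.le_C θ).1 from
    Subgroup.ext fun c => mem_inertiaC hS c, index_inertia, index_inertia,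
    ← Nat.card_eq_finsetCard, ← Nat.card_eq_finsetCard]
  letI := charAction (actQ hS)
  let X : SubMulAction T (IrrCharacter Q) :=
    { carrier := {η | η ∈ orbitFinset Q θ}
      smul_mem' := fun t η (hη : η ∈ orbitFinset Q θ) => by
        show t • η ∈ orbitFinset Q θ
        obtain ⟨g, rfl⟩ := (mem_orbitFinset Q).1 hη
        refine (mem_orbitFinset Q).2 ⟨φ t g, Subtype.ext (funext fun n => ?_)⟩
        show conjFun Q θ.1 g (actQ hS t⁻¹ n) = conjFun Q θ.1 (φ t g) n
        rw [← conjFun_map φ Q hS.invQ hθ t g (actQ hS t⁻¹ n)]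
        exact congrArg (conjFun Q θ.1 (φ t g)) (Subtype.ext (by simp)) }
  have hfix : Nat.card (MulAction.fixedPoints T X) =
      Nat.card (orbitFinset (Q.subgroupOf C) (toSubgroupOf Q hS.le_C θ)) := by
    have hconj : ∀ c : C, conjChar (Q.subgroupOf C) (toSubgroupOf Q hS.le_C θ) c =
        toSubgroupOf Q hS.le_C (conjChar Q θ (c : K)) := fun c =>
      Subtype.ext (funext fun x => congrArg θ.1 (Subtype.ext (by
        simp [Subgroup.subgroupOfEquivOfLe])))
    refine Nat.card_congr (Equiv.ofBijective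
      (fun η => ⟨toSubgroupOf Q hS.le_C η.1.1, ?_⟩) ⟨fun a b hab => ?_, ?_⟩)
    · have hη : IsFix (actQ hS) η.1.1.1 :=
        mem_fixedPoints_charAction.1 fun t => congrArg Subtype.val (η.2 t)
      obtain ⟨g, hg⟩ := (mem_orbitFinset Q).1 η.1.2
      obtain ⟨c, hc, hc'⟩ := exists_mem_C_conj hS hθ hη (congrArg Subtype.val hg).symm
      exact (mem_orbitFinset _).2 ⟨⟨c, hc⟩, by
        rw [hconj]; exact congrArg _ (Subtype.ext hc'.symm)⟩
    · refine Subtype.ext (Subtype.ext (Subtype.ext (funext fun n => ?_)))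
      have h1 := congrArg (fun z => z.1.1) hab
      exact congrFun h1 ⟨⟨n, hS.le_C n.2⟩, Subgroup.mem_subgroupOf.2 n.2⟩
    · rintro ⟨η, hη⟩
      obtain ⟨c, rfl⟩ := (mem_orbitFinset _).1 hη
      refine ⟨⟨⟨conjChar Q θ (c : K), (mem_orbitFinset Q).2 ⟨(c : K), rfl⟩⟩, fun t => ?_⟩,
        Subtype.ext (hconj c).symm⟩
      refine Subtype.ext ?_
      have hcf : IsFix (actQ hS) (conjFun Q θ.1 (c : K)) := fun s n => by
        have h2 : conjFun Q θ.1 (φ s (c : K)) = conjFun Q θ.1 (c : K) := by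
          have hm : (φ s (c : K))⁻¹ * c ∈ Q := QuotientGroup.eq.1 (hS.mk_map_eq c.2 s)
          have h3 := congrArg Subtype.val
            (conjChar_of_mem Q (conjChar Q θ (φ s (c : K))) hm)
          rw [conjChar_coe, conjChar_coe, ← conjFun_mul, mul_inv_cancel_left] at h3
          exact h3.symm
        rw [← conjFun_map φ Q hS.invQ hθ s (c : K) n, h2]
      exact mem_fixedPoints_charAction.2 hcf t
  rw [ZMod.natCast_eq_natCast_iff]
  exact hfix ▸ hS.isPGroup.card_modEq_card_fixedPoints X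

theorem relCorr_degree_cast {χ : IrrCharacter K} {ξ : IrrCharacter C} (h : RelCorr hS χ ξ) :
    (degree χ : ZMod p) = (mult C.subtype χ ξ : ZMod p) * (degree ξ : ZMod p) := by
  obtain ⟨θ, hθ, hover⟩ := exists_fix_constituent φ Q hS.invQ hS.isPGroup hS.not_dvd_index h.1
  obtain ⟨β, γ, rfl, rfl, hc⟩ := h.exists_lift hS hθ hover
  rw [mult_lift]
  have hK : degree (liftK hS β) = (inertia Q θ.1).index * (degree θ * degree β) := by
    have h1 := cgLift_apply_one (irr_le_inertia Q θ) (fun _ => mem_inertia Q) (canExt_apply hS) β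
    rw [apply_one_eq_degree, apply_one_eq_degree, apply_one_eq_degree] at h1
    exact_mod_cast h1
  have hC : degree (liftC hS γ) =
      ((inertia Q θ.1).subgroupOf C).index * (degree θ * degree γ) := by
    have h1 := cgLift_apply_one (le_inertiaC hS) (mem_inertiaC hS) (extC_apply hS) γ
    rw [show (toSubgroupOf Q hS.le_C θ).1 1 = θ.1 1 from congrArg θ.1 (Subtype.ext rfl),
      apply_one_eq_degree, apply_one_eq_degree, apply_one_eq_degree] at h1
    rw [liftC]
    exact_mod_cast h1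
  have hβ : degree β = ∑ δ, mult (emb (C := C) θ) β δ * degree δ := by
    have h1 := sum_mult_smul (ι := emb (C := C) θ) β 1
    rw [map_one, apply_one_eq_degree] at h1
    simp only [apply_one_eq_degree] at h1
    exact_mod_cast h1
  have hβ' : (degree β : ZMod p) = (mult (emb θ) β γ : ZMod p) * (degree γ : ZMod p) := by
    rw [hβ, Nat.cast_sum, Finset.sum_eq_single γ]
    · push_cast; rfl
    · intro δ _ hne
      rw [Nat.cast_mul, (ZMod.natCast_eq_zero_iff _ p).2 ?_, zero_mul]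
      by_contra hd
      exact hne (corr_right_unique hS.isPGroup (emb_isFixedEmbedding hS hθ) (not_dvd_card_quot hS)
        ⟨hc.1, hd⟩ hc)
    · exact fun h => absurd (Finset.mem_univ γ) h
  rw [hK, hC]
  push_cast
  rw [hβ', index_inertia_cast hS hθ]
  ring

end Cfsg.Agent.RelGlauberman
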